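import Groth.Prelude.Def_CAlg
import Groth.Agent.DepthTwoLib.Basic
import Groth.Agent.LcFinLib.Main
import Groth.Agent.LocCohLib.Finiteness
import Groth.Agent.LocCohLib.BaseChange
import Groth.Agent.Formal2AlgzLib.LocalKill
import Groth.Agent.CompleteLib.Basic
import Mathlib.RingTheory.Ideal.AssociatedPrime.Localization
import Mathlib.RingTheory.Localization.FractionRing

/-! # A finite modification of a component with finite first local cohomology of the trace of a hypersurface -/

set_option autoImplicit false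
set_option linter.style.haveILetI false
set_option linter.unusedSectionVars false
set_option backward.isDefEq.respectTransparency false
set_option backward.isDefEq.respectTransparency.types false
set_option maxHeartbeats 1000000
set_option synthInstance.maxHeartbeats 400000

universe u

open CategoryTheory
open LocCohLib (H0Equiv Hδ)

attribute [local instance] HasDerivedCategory.standard

noncomputable section

namespace NhdFaith

theorem one_le_depth_of_notMem {A : Type u} [CommRing A] [IsNoetherianRing A] {M : Type u} [AddCommGroup M] [Module A M]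
    [Module.Finite A M] (p : Ideal A) [p.IsPrime] (h : p ∉ associatedPrimes A M) :
    1 ≤ LocCoh.depth (Localization.AtPrime p) (LocalizedModule p.primeCompl M) := by
  haveI : IsNoetherianRing (Localization.AtPrime p) := IsLocalization.isNoetherianRing p.primeCompl _ inferInstance
  haveI : Module.Finite (Localization.AtPrime p) (LocalizedModule p.primeCompl M) :=
    Module.Finite.of_isLocalizedModule p.primeCompl (LocalizedModule.mkLinearMap p.primeCompl M)
  refine DepthTwoLib.one_le_iff.2 fun x hx => ?_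
  by_contra hx0
  refine h ?_
  have hmax : IsLocalRing.maximalIdeal (Localization.AtPrime p) ∈
      associatedPrimes (Localization.AtPrime p) (LocalizedModule p.primeCompl M) := by
    refine isAssociatedPrime_iff.2 ⟨inferInstance, x, le_antisymm (fun a ha => ?_)
      (IsLocalRing.le_maximalIdeal fun htop => hx0 ?_)⟩
    · rw [Submodule.mem_colon_singleton, Submodule.mem_bot]; exact hx a ha
    · have h1 := Ideal.eq_top_iff_one _ |>.1 htop
      rwa [Submodule.mem_colon_singleton, Submodule.mem_bot, one_smul] at h1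
  rw [← Module.associatedPrimes.preimage_comap_associatedPrimes_eq_associatedPrimes_of_isLocalizedModule
    p.primeCompl (Localization.AtPrime p) (LocalizedModule.mkLinearMap p.primeCompl M)] at hmax
  have hu : (IsLocalRing.maximalIdeal (Localization.AtPrime p)).comap (algebraMap A (Localization.AtPrime p)) = p :=
    IsLocalization.AtPrime.under_maximalIdeal (Localization.AtPrime p) p
  exact hu ▸ hmax

variable {A : Type u} [CommRing A] [IsNoetherianRing A] [IsLocalRing A] {ω : Dual.D A} (hω : Dual.IsDualizing A ω)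
  (P : Ideal A) [P.IsPrime] (f : A)

open IsLocalRing (maximalIdeal)

include hω in
theorem exists_pow_kill (hdim : (3 : WithBot ℕ∞) ≤ ringKrullDim (A ⧸ P)) (J : Ideal A)
    (hJ : ∀ q : PrimeSpectrum A, J ≤ q.asIdeal → P ≤ q.asIdeal → q.asIdeal ≠ maximalIdeal A →
      ringKrullDim (A ⧸ q.asIdeal) = 1) :
    ∃ N : ℕ, ∀ a ∈ J ^ N, ∀ z : LocCoh.H J 1 (A ⧸ P), a • z = 0 := by
  let T : Set (PrimeSpectrum A) := PrimeSpectrum.zeroLocus (J : Set A)
  have hT : StableUnderSpecialization T := (PrimeSpectrum.isClosed_zeroLocus _).stableUnderSpecialization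
  obtain ⟨J', hJ', hk⟩ := LcFinLib.exists_ideal_kill hω (A ⧸ P) (LcFinLib.lcGD J) hT T hT 1
    (fun p q hp hq hpq => by
      by_cases hPp : P ≤ p.asIdeal
      · have hlt : p < q := lt_of_le_of_ne hpq fun h => hp (h ▸ hq)
        have hdeg := LcFinLib.krullDim_Icc_eq hω hpq
        have hsm := Groth.Agent.DualCxLib.deg_strictMono hω hlt
        by_cases hpP : p.asIdeal = P
        · have hm : Order.krullDim (Set.Icc p (IsLocalRing.closedPoint A)) = ringKrullDim (A ⧸ P) := by
            rw [Formal2AlgzLib.krullDim_Icc_max, hpP]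
          rw [LcFinLib.krullDim_Icc_eq hω (show p ≤ IsLocalRing.closedPoint A from
            IsLocalRing.le_maximalIdeal p.isPrime.ne_top)] at hm
          rw [← hm] at hdim
          have h3 : 3 ≤ (Groth.Agent.DualCxLib.deg hω (IsLocalRing.closedPoint A) - Groth.Agent.DualCxLib.deg hω p).toNat := by
            exact ENat.natCast_le_natCast.1 (WithBot.coe_le_coe.1 hdim)
          have h2 : Groth.Agent.DualCxLib.deg hω (IsLocalRing.closedPoint A) - Groth.Agent.DualCxLib.deg hω q ≤ 1 := by
            by_cases hqm : q.asIdeal = maximalIdeal A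
            · rw [show q = IsLocalRing.closedPoint A from PrimeSpectrum.ext hqm]; omega
            · have h1 := hJ q hq (hPp.trans hpq) hqm
              rw [← Formal2AlgzLib.krullDim_Icc_max, LcFinLib.krullDim_Icc_eq hω (show q ≤ IsLocalRing.closedPoint A from
                IsLocalRing.le_maximalIdeal q.isPrime.ne_top)] at h1
              have : (Groth.Agent.DualCxLib.deg hω (IsLocalRing.closedPoint A) - Groth.Agent.DualCxLib.deg hω q).toNat = 1 := by
                exact_mod_cast h1
              omega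
          rw [hdeg]
          refine lt_of_lt_of_le ?_ (le_add_of_nonneg_left (WithBot.coe_le_coe.2 bot_le))
          exact_mod_cast (by omega : 1 < (Groth.Agent.DualCxLib.deg hω q - Groth.Agent.DualCxLib.deg hω p).toNat)
        · have h1 : 1 ≤ LocCoh.depth (Localization.AtPrime p.asIdeal) (LocalizedModule p.asIdeal.primeCompl (A ⧸ P)) :=
            one_le_depth_of_notMem _ fun hmem => hpP (by
              rw [associatedPrimes.eq_singleton_of_isPrimary (Ideal.IsPrime.isPrimary ‹P.IsPrime›),
                Set.mem_singleton_iff, Ideal.IsPrime.radical ‹P.IsPrime›] at hmem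
              exact hmem)
          rw [hdeg]
          have h2 : (1 : ℕ∞) ≤ ((Groth.Agent.DualCxLib.deg hω q - Groth.Agent.DualCxLib.deg hω p).toNat : ℕ∞) := by
            exact_mod_cast (by omega : 1 ≤ (Groth.Agent.DualCxLib.deg hω q - Groth.Agent.DualCxLib.deg hω p).toNat)
          rw [← WithBot.coe_add]
          exact WithBot.coe_lt_coe.2 (lt_of_lt_of_le (by decide : (1 : ℕ∞) < 1 + 1) (add_le_add h1 h2))
      · obtain ⟨a, haP, hap⟩ := Set.not_subset.1 hPp
        haveI : Subsingleton (LocalizedModule p.asIdeal.primeCompl (A ⧸ P)) :=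
          LocalizedModule.subsingleton_iff.2 fun m => ⟨a, hap, by
            obtain ⟨w, rfl⟩ := Ideal.Quotient.mk_surjective m
            rw [Algebra.smul_def, Ideal.Quotient.algebraMap_eq, Ideal.Quotient.eq_zero_iff_mem.2 haP, zero_mul]⟩
        rw [show LocCoh.depth (Localization.AtPrime p.asIdeal) (LocalizedModule p.asIdeal.primeCompl (A ⧸ P)) = ⊤ from
          if_pos (Subsingleton.elim _ _)]
        refine lt_of_lt_of_le ?_ (le_add_of_nonneg_right ?_)
        · exact WithBot.coe_lt_coe.2 (ENat.natCast_lt_top 1)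
        · rw [LcFinLib.krullDim_Icc_eq hω hpq]; exact WithBot.coe_le_coe.2 bot_le)
  obtain ⟨N, hN⟩ := Ideal.exists_pow_le_of_le_radical_of_fg (show J ≤ J'.radical by
    rw [Ideal.radical_eq_sInf]
    exact le_sInf fun q ⟨hle, hq⟩ => hJ' (a := ⟨q, hq⟩) hle) (IsNoetherian.noetherian J)
  exact ⟨N, fun a ha z => hk 1 le_rfl a (hN ha) z⟩

variable (K : Type u) [Field K] [Algebra A K]

/-- Elements multiplied into the base by a power of an ideal, with a uniform bound. -/
theorem exists_uniform (hker : ∀ a : A, algebraMap A K a = 0 ↔ a ∈ P)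
    (hfrac : ∀ x : K, ∃ a s : A, s ∉ P ∧ algebraMap A K s * x = algebraMap A K a)
    (J : Ideal A) (hJP : ¬ J ≤ P) {N : ℕ} (hN : ∀ a ∈ J ^ N, ∀ z : LocCoh.H J 1 (A ⧸ P), a • z = 0)
    (x : K) (n : ℕ) (hx : ∀ a ∈ J ^ n, a • x ∈ LinearMap.range (Algebra.linearMap A K)) :
    ∀ a ∈ J ^ N, a • x ∈ LinearMap.range (Algebra.linearMap A K) := by
  obtain ⟨c₀, hc₀, hc₀P⟩ := Set.not_subset.1 hJP
  have hcP : c₀ ^ n ∉ P := fun h => hc₀P (Ideal.IsPrime.mem_of_pow_mem ‹_› n h)
  let c := c₀ ^ n
  obtain ⟨y, hy⟩ := hx c (Ideal.pow_mem_pow hc₀ n)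
  let F : (A ⧸ P) →ₗ[A] (A ⧸ P) := c • LinearMap.id
  have hF : Function.Injective F := (injective_iff_map_eq_zero _).2 fun m hm => by
    obtain ⟨m, rfl⟩ := Ideal.Quotient.mk_surjective m
    have h1 : Ideal.Quotient.mk P (c * m) = 0 := by rw [← hm]; rfl
    rw [Ideal.Quotient.eq_zero_iff_mem] at h1 ⊢
    exact (Ideal.IsPrime.mem_or_mem ‹_› h1).resolve_left hcP
  let G := (LinearMap.range F).mkQ
  have hex : Function.Exact F G := LinearMap.exact_map_mkQ_range F
  have hGs : Function.Surjective G := Submodule.mkQ_surjective _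
  let δ := Hδ (I := J) hF hex hGs 0
  have hδ : Function.Injective δ := (injective_iff_map_eq_zero _).2 fun z hz => by
    obtain ⟨w, rfl⟩ := ((LocCohLib.exact_Hδ (I := J) hF hex hGs 0).2 z).1 hz
    haveI : Subsingleton (LocCoh.H J 0 (A ⧸ P)) := (LocCohLib.subsingleton_H0_iff (I := J) (A ⧸ P)).2 fun p hp hle => by
      rw [associatedPrimes.eq_singleton_of_isPrimary (Ideal.IsPrime.isPrimary ‹P.IsPrime›),
        Set.mem_singleton_iff, Ideal.IsPrime.radical ‹P.IsPrime›] at hp
      exact hJP (hp ▸ hle)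
    rw [Subsingleton.elim w 0, map_zero]
  have hclass : ∀ a, a • x ∈ LinearMap.range (Algebra.linearMap A K) ↔
      a • G (Ideal.Quotient.mk P y) = 0 := fun a => by
    have hyx : algebraMap A K y = algebraMap A K c * x := by rw [← Algebra.smul_def]; exact hy
    have hc0 : algebraMap A K c ≠ 0 := fun h => hcP ((hker c).1 h)
    rw [← map_smul]
    refine Iff.trans ?_ (Submodule.Quotient.mk_eq_zero _).symm
    constructor
    · rintro ⟨b, hb⟩
      refine ⟨Ideal.Quotient.mk P b, ?_⟩
      show Ideal.Quotient.mk P (c * b) = Ideal.Quotient.mk P (a * y)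
      rw [Ideal.Quotient.mk_eq_mk_iff_sub_mem, ← hker, map_sub, map_mul, map_mul, hyx,
        show algebraMap A K b = algebraMap A K a * x from hb.trans (Algebra.smul_def a x)]
      ring
    · rintro ⟨b, hb⟩
      obtain ⟨b, rfl⟩ := Ideal.Quotient.mk_surjective b
      refine ⟨b, ?_⟩
      have h1 : Ideal.Quotient.mk P (c * b) = Ideal.Quotient.mk P (a * y) := hb
      rw [Ideal.Quotient.mk_eq_mk_iff_sub_mem, ← hker, map_sub, map_mul, map_mul, hyx, sub_eq_zero] at h1
      show algebraMap A K b = a • x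
      rw [Algebra.smul_def]
      exact mul_left_cancel₀ hc0 (by rw [h1]; ring)
  have htor : G (Ideal.Quotient.mk P y) ∈ DRing.torsionSub J _ := ⟨n, fun a ha => (hclass a).1 (hx a ha)⟩
  intro a ha
  refine (hclass a).2 ?_
  let z := (H0Equiv J _).symm ⟨_, htor⟩
  have h1 : a • z = 0 := hδ (by rw [map_smul, map_zero]; exact hN a ha (δ z))
  have h2 := congrArg (fun w => ((H0Equiv J _) w).1) h1
  simpa [z] using h2

include hω in
theorem exists_modification (hdim : (3 : WithBot ℕ∞) ≤ ringKrullDim (A ⧸ P)) (hfP : f ∉ P)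
    (hker : ∀ a : A, algebraMap A K a = 0 ↔ a ∈ P)
    (hfrac : ∀ x : K, ∃ a s : A, s ∉ P ∧ algebraMap A K s * x = algebraMap A K a)
    [IsAdicComplete (Ideal.span ({f} : Set A)) A] :
    ∃ B : Subalgebra A K, Module.Finite A B ∧ algebraMap A B f ∈ nonZeroDivisors B ∧
      IsAdicComplete (Ideal.span ({algebraMap A B f} : Set B)) B ∧
      Module.Finite B (LocCoh.H ((maximalIdeal A).map (algebraMap A B)) 1
        (B ⧸ Ideal.span ({algebraMap A B f} : Set B))) := by
  classical
  let Qm := (A ⧸ P) ⧸ LinearMap.range ((f • LinearMap.id : (A ⧸ P) →ₗ[A] A ⧸ P))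
  have hfin := associatedPrimes.finite A Qm
  let Qs : Finset (Ideal A) := hfin.toFinset.filter fun q => ringKrullDim (A ⧸ q) = 1
  let J : Ideal A := ∏ q ∈ Qs, q
  have hQf : ∀ q ∈ Qs, q.IsPrime ∧ f ∈ q ∧ ringKrullDim (A ⧸ q) = 1 := fun q hq => by
    obtain ⟨hq1, hq2⟩ := Finset.mem_filter.1 hq
    obtain ⟨hqp, w, hw⟩ := isAssociatedPrime_iff.1 (hfin.mem_toFinset.1 hq1)
    refine ⟨hqp, hw.ge ?_, hq2⟩
    rw [Submodule.mem_colon_singleton, Submodule.mem_bot]
    obtain ⟨w, rfl⟩ := Submodule.mkQ_surjective _ w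
    rw [← map_smul]
    exact (Submodule.Quotient.mk_eq_zero _).2 ⟨w, rfl⟩
  have hJP : ¬ J ≤ P := fun h => by
    obtain ⟨q, hq, hle⟩ := (Ideal.IsPrime.prod_le ‹P.IsPrime›).1 h
    exact hfP (hle (hQf q hq).2.1)
  have hJq : ∀ q : PrimeSpectrum A, J ≤ q.asIdeal → P ≤ q.asIdeal → q.asIdeal ≠ maximalIdeal A →
      ringKrullDim (A ⧸ q.asIdeal) = 1 := fun q hJle _ hqm => by
    obtain ⟨q₀, hq₀, hle⟩ := (Ideal.IsPrime.prod_le q.isPrime).1 hJle
    obtain ⟨hp₀, -, h1⟩ := hQf q₀ hq₀
    suffices q.asIdeal = q₀ by rw [this, h1]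
    by_contra hne
    let Q₀ : PrimeSpectrum A := ⟨q₀, hp₀⟩
    have hlt : Q₀ < q := lt_of_le_of_ne hle fun h => hne (congrArg PrimeSpectrum.asIdeal h).symm
    have hlt' : q < IsLocalRing.closedPoint A := lt_of_le_of_ne (IsLocalRing.le_maximalIdeal q.isPrime.ne_top)
      fun h => hqm (congrArg PrimeSpectrum.asIdeal h)
    have h1' : Order.krullDim (Set.Icc Q₀ (IsLocalRing.closedPoint A)) = 1 := by
      rw [Formal2AlgzLib.krullDim_Icc_max]; exact h1
    rw [LcFinLib.krullDim_Icc_eq hω (hlt.le.trans hlt'.le)] at h1'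
    have : (Groth.Agent.DualCxLib.deg hω (IsLocalRing.closedPoint A) - Groth.Agent.DualCxLib.deg hω Q₀).toNat = 1 := by
      exact_mod_cast h1'
    have a1 := Groth.Agent.DualCxLib.deg_strictMono hω hlt
    have a2 := Groth.Agent.DualCxLib.deg_strictMono hω hlt'
    omega
  obtain ⟨N, hN⟩ := exists_pow_kill hω P hdim J hJq
  have huni := exists_uniform P K hker hfrac J hJP hN
  let R := LinearMap.range (Algebra.linearMap A K)
  let B : Subalgebra A K :=
    { carrier := {x | ∀ a ∈ J ^ N, a • x ∈ R}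
      zero_mem' := fun a _ => by rw [smul_zero]; exact zero_mem _
      add_mem' := fun {x y} hx hy a ha => by rw [smul_add]; exact add_mem (hx a ha) (hy a ha)
      one_mem' := fun a _ => ⟨a, by simp [Algebra.smul_def]⟩
      algebraMap_mem' := fun r a _ => ⟨a * r, by simp [Algebra.smul_def]⟩
      mul_mem' := fun {x y} hx hy => huni (x * y) (N + N) fun a ha => by
        rw [pow_add] at ha
        refine Submodule.mul_induction_on ha (fun a₁ h₁ a₂ h₂ => ?_) (fun u v hu hv => ?_)
        · obtain ⟨b₁, hb₁⟩ := hx a₁ h₁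
          obtain ⟨b₂, hb₂⟩ := hy a₂ h₂
          exact ⟨b₁ * b₂, by
            simp only [Algebra.linearMap_apply, Algebra.smul_def, map_mul] at hb₁ hb₂ ⊢
            rw [hb₁, hb₂]; ring⟩
        · rw [add_smul]; exact add_mem hu hv }
  obtain ⟨c₀, hc₀, hc₀P⟩ := Set.not_subset.1 hJP
  have hc : algebraMap A K (c₀ ^ N) ≠ 0 := fun h => hc₀P (Ideal.IsPrime.mem_of_pow_mem ‹_› N ((hker _).1 h))
  haveI hBfin : Module.Finite A B := by
    haveI : IsNoetherian A R := isNoetherian_of_isNoetherianRing_of_finite A R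
    let φ : B →ₗ[A] R := (((c₀ ^ N) • LinearMap.id : K →ₗ[A] K).comp B.val.toLinearMap).codRestrict R
      fun x => x.2 _ (Ideal.pow_mem_pow hc₀ N)
    refine Module.Finite.of_injective φ ((injective_iff_map_eq_zero _).2 fun x hx => Subtype.ext ?_)
    have h1 : (c₀ ^ N) • (x : K) = 0 := congrArg Subtype.val hx
    rw [Algebra.smul_def] at h1
    exact (mul_eq_zero.1 h1).resolve_left hc
  have hf0 : algebraMap A K f ≠ 0 := fun h => hfP ((hker f).1 h)
  have hfnz : algebraMap A B f ∈ nonZeroDivisors B :=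
    mem_nonZeroDivisors_of_ne_zero fun h => hf0 (congrArg Subtype.val h)
  haveI hcomp : IsAdicComplete (Ideal.span ({algebraMap A B f} : Set B)) B := by
    haveI := CompleteLib.isAdicComplete_of_finite (I := Ideal.span ({f} : Set A)) (M := B)
    rw [show Ideal.span ({algebraMap A B f} : Set B) = (Ideal.span ({f} : Set A)).map (algebraMap A B) by
      rw [Ideal.map_span, Set.image_singleton]]
    exact (IsAdicComplete.map_algebraMap_iff _ _).mpr inferInstance
  refine ⟨B, hBfin, hfnz, hcomp, ?_⟩
  let M := B ⧸ Ideal.span ({algebraMap A B f} : Set B)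
  haveI : Module.Finite A M := Module.Finite.trans B M
  have hass : ∀ p ∈ associatedPrimes A M, ringKrullDim (A ⧸ p) ≠ 1 := by
    intro p hp hp1
    obtain ⟨hpp, m, hm⟩ := isAssociatedPrime_iff.1 hp
    obtain ⟨y, rfl⟩ := Ideal.Quotient.mk_surjective m
    have hcol : ∀ r, r ∈ p ↔ ∃ b : B, algebraMap A K f * b = r • (y : K) := fun r => by
      rw [hm, Submodule.mem_colon_singleton, Submodule.mem_bot]
      show r • Ideal.Quotient.mk (Ideal.span ({algebraMap A B f} : Set B)) y = 0 ↔ _
      rw [show r • Ideal.Quotient.mk (Ideal.span ({algebraMap A B f} : Set B)) y = Ideal.Quotient.mk _ (r • y) from rfl,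
        Ideal.Quotient.eq_zero_iff_mem, Ideal.mem_span_singleton']
      exact ⟨fun ⟨b, hb⟩ => ⟨b, by rw [mul_comm]; exact congrArg Subtype.val hb⟩,
        fun ⟨b, hb⟩ => ⟨b, Subtype.ext (by rw [mul_comm] at hb; exact hb)⟩⟩
    by_cases hJp : J ≤ p
    · let x : K := (algebraMap A K f)⁻¹ * (y : K)
      have hxB : x ∈ B := huni x (N + 1) fun a ha => by
        rw [pow_succ] at ha
        refine Submodule.mul_induction_on ha (fun a₁ h₁ a₂ h₂ => ?_) (fun u v hu hv => ?_)
        · obtain ⟨b, hb⟩ := (hcol a₂).1 (hJp h₂)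
          rw [mul_smul, show a₂ • x = (b : K) by
            rw [Algebra.smul_def, mul_left_comm, ← Algebra.smul_def, ← hb, inv_mul_cancel_left₀ hf0]]
          exact b.2 a₁ h₁
        · rw [add_smul]; exact add_mem hu hv
      refine hpp.ne_top ((Ideal.eq_top_iff_one p).2 ((hcol 1).2 ⟨⟨x, hxB⟩, ?_⟩))
      rw [one_smul]
      exact mul_inv_cancel_left₀ hf0 _
    · obtain ⟨j₀, hj₀, hj₀p⟩ := Set.not_subset.1 hJp
      let j := j₀ ^ N
      have hjp : j ∉ p := fun h => hj₀p (hpp.mem_of_pow_mem N h)
      obtain ⟨d, hd⟩ := y.2 j (Ideal.pow_mem_pow hj₀ N)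
      let w := (LinearMap.range ((f • LinearMap.id : (A ⧸ P) →ₗ[A] A ⧸ P))).mkQ (Ideal.Quotient.mk P d)
      have hw : ∀ r, r • w = 0 ↔ ∃ e : A, algebraMap A K f * algebraMap A K e = (r * j) • (y : K) := fun r => by
        show r • (LinearMap.range ((f • LinearMap.id : (A ⧸ P) →ₗ[A] A ⧸ P))).mkQ _ = 0 ↔ _
        rw [← map_smul]
        refine (Submodule.Quotient.mk_eq_zero _).trans ?_
        have hd' : algebraMap A K d = j • (y : K) := hd
        constructor
        · rintro ⟨e, he⟩
          obtain ⟨e, rfl⟩ := Ideal.Quotient.mk_surjective e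
          have h1 : Ideal.Quotient.mk P (f * e) = Ideal.Quotient.mk P (r * d) := he
          rw [Ideal.Quotient.mk_eq_mk_iff_sub_mem, ← hker, map_sub, sub_eq_zero, map_mul, map_mul, hd'] at h1
          exact ⟨e, by rw [h1, mul_smul, Algebra.smul_def r]⟩
        · rintro ⟨e, he⟩
          refine ⟨Ideal.Quotient.mk P e, ?_⟩
          show Ideal.Quotient.mk P (f * e) = Ideal.Quotient.mk P (r * d)
          rw [Ideal.Quotient.mk_eq_mk_iff_sub_mem, ← hker, map_sub, sub_eq_zero, map_mul, map_mul, hd', he,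
            mul_smul, Algebra.smul_def r]
      have hcp : p ∈ associatedPrimes A Qm := by
        refine isAssociatedPrime_iff.2 ⟨hpp, j • w, le_antisymm (fun r hr => ?_) (fun r hr => ?_)⟩
        · rw [Submodule.mem_colon_singleton, Submodule.mem_bot, smul_smul]
          obtain ⟨b, hb⟩ := (hcol r).1 hr
          obtain ⟨e, he⟩ := b.2 j (Ideal.pow_mem_pow hj₀ N)
          refine (hw _).2 ⟨j * e, ?_⟩
          have he' : algebraMap A K e = j • (b : K) := he
          rw [map_mul, he']
          calc algebraMap A K f * (algebraMap A K j * j • (b : K)) = (j * j) • (algebraMap A K f * (b : K)) := by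
                simp only [Algebra.smul_def, map_mul]; ring
            _ = (j * j) • r • (y : K) := by rw [hb]
            _ = _ := by rw [smul_smul]; congr 1; ring
        · rw [Submodule.mem_colon_singleton, Submodule.mem_bot, smul_smul] at hr
          obtain ⟨e, he⟩ := (hw _).1 hr
          have : r * j * j ∈ p := (hcol _).2 ⟨⟨algebraMap A K e, B.algebraMap_mem e⟩, he⟩
          rcases hpp.mem_or_mem this with h | h
          · exact (hpp.mem_or_mem h).resolve_right hjp
          · exact absurd h hjp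
      exact hJp ((Ideal.IsPrime.prod_le hpp).2 ⟨p, Finset.mem_filter.2 ⟨hfin.mem_toFinset.2 hcp, hp1⟩, le_rfl⟩)
  let T : Set (PrimeSpectrum A) := PrimeSpectrum.zeroLocus ((maximalIdeal A : Ideal A) : Set A)
  have hT : StableUnderSpecialization T := (PrimeSpectrum.isClosed_zeroLocus _).stableUnderSpecialization
  obtain ⟨J', hJ', hk⟩ := LcFinLib.exists_ideal_kill hω M (LcFinLib.lcGD (maximalIdeal A)) hT T hT 1
    (fun p q hp hq hpq => by
      simp only [T, Formal2AlgzLib.zeroLocus_maximalIdeal, Set.mem_singleton_iff] at hp hq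
      subst hq
      rw [LcFinLib.krullDim_Icc_eq hω hpq]
      have hsm := Groth.Agent.DualCxLib.deg_strictMono hω (lt_of_le_of_ne hpq hp)
      by_cases h2 : 2 ≤ (Groth.Agent.DualCxLib.deg hω (IsLocalRing.closedPoint A) - Groth.Agent.DualCxLib.deg hω p).toNat
      · refine lt_of_lt_of_le ?_ (le_add_of_nonneg_left (WithBot.coe_le_coe.2 bot_le))
        exact_mod_cast (show 1 < (Groth.Agent.DualCxLib.deg hω (IsLocalRing.closedPoint A) - Groth.Agent.DualCxLib.deg hω p).toNat by omega)
      · have h1 : (Groth.Agent.DualCxLib.deg hω (IsLocalRing.closedPoint A) - Groth.Agent.DualCxLib.deg hω p).toNat = 1 := by omega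
        have hd1 : ringKrullDim (A ⧸ p.asIdeal) = 1 := by
          rw [← Formal2AlgzLib.krullDim_Icc_max, LcFinLib.krullDim_Icc_eq hω hpq, h1]; rfl
        have hdep := one_le_depth_of_notMem (M := M) p.asIdeal fun h => hass _ h hd1
        rw [h1, ← WithBot.coe_add]
        exact WithBot.coe_lt_coe.2 (lt_of_lt_of_le (by decide : (1 : ℕ∞) < 1 + 1) (add_le_add hdep le_rfl)))
  haveI : Module.Finite A (ModuleCat.of A M) := inferInstanceAs (Module.Finite A M)
  haveI hH : Module.Finite A (LocCoh.H (maximalIdeal A) 1 M) :=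
    ((LcFinLib.lcGD (maximalIdeal A)).finite_iff_killed (ModuleCat.of A M) 1).2 ⟨J', hJ', hk⟩ 1 le_rfl
  haveI : IsNoetherianRing B := IsNoetherianRing.of_finite A B
  obtain ⟨φ, hφ⟩ := LocCohLib.exists_addEquiv_restrict (R := A) (R' := B) (I := maximalIdeal A) M 1
  obtain ⟨S, hS⟩ := hH.fg_top
  refine ⟨⟨S.image φ.symm, eq_top_iff.2 fun z _ => ?_⟩⟩
  obtain ⟨z, rfl⟩ := φ.symm.surjective z
  have hz : z ∈ Submodule.span A (S : Set _) := hS.ge trivial
  induction hz using Submodule.span_induction with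
  | mem w hw => exact Submodule.subset_span (Finset.mem_image_of_mem _ hw)
  | zero => rw [map_zero]; exact zero_mem _
  | add u v _ _ hu hv => rw [map_add]; exact add_mem (hu trivial) (hv trivial)
  | smul a w _ h =>
    have : φ.symm (a • w) = algebraMap A B a • φ.symm w :=
      φ.injective (by rw [hφ, φ.apply_symm_apply, φ.apply_symm_apply])
    rw [this]
    exact Submodule.smul_mem _ _ (h trivial)

end NhdFaith
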