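import Groth.Prelude.Def_FEt
import Mathlib.AlgebraicGeometry.Morphisms.FlatMono
import Groth.Agent.FFDescLib.EtaleGraph

/-! # Morphisms of finite étale covers near a closed subscheme, from splittings of clopen pieces -/

set_option autoImplicit false
set_option linter.style.haveILetI false
set_option backward.isDefEq.respectTransparency false
set_option backward.isDefEq.respectTransparency.types false
set_option maxHeartbeats 1000000

universe u

open CategoryTheory CategoryTheory.Limits AlgebraicGeometry TopologicalSpace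

noncomputable section

namespace NhdFaith

/-- Every relatively clopen piece over `Z` of a finite étale scheme splits off in a neighbourhood. -/
def SplitAlong {X : Scheme.{u}} (Z : Set X) : Prop :=
  ∀ {P : Scheme.{u}} (p : P ⟶ X), FEt.prop p → ∀ S : Set P, IsClosed S → S ⊆ p ⁻¹' Z → IsClosed (p ⁻¹' Z \ S) →
    ∃ G G' : P.Opens, Disjoint (G : Set P) G' ∧ p ⁻¹' Z ⊆ (G : Set P) ∪ G' ∧ (G : Set P) ∩ p ⁻¹' Z = S

variable {X X₀ V W : Scheme.{u}} (u : X₀ ⟶ X) [IsClosedImmersion u] (v : V ⟶ X) (w : W ⟶ X)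
  [IsFinite v] [Etale v] [IsFinite w] [Etale w]

theorem exists_hom (hsplit : SplitAlong (Set.range u)) (φ₀ : pullback v u ⟶ pullback w u)
    (hφ₀ : φ₀ ≫ pullback.snd w u = pullback.snd v u) :
    ∃ (O : X.Opens) (φ : (v ⁻¹ᵁ O : Scheme.{u}) ⟶ W), Set.range u ⊆ O ∧ φ ≫ w = (v ⁻¹ᵁ O).ι ≫ v ∧
      ∀ m : pullback v u ⟶ (v ⁻¹ᵁ O : Scheme.{u}), m ≫ (v ⁻¹ᵁ O).ι = pullback.fst v u →
        m ≫ φ = φ₀ ≫ pullback.fst w u := by
  let l : pullback v u ⟶ pullback v w := pullback.lift (pullback.fst v u) (φ₀ ≫ pullback.fst w u) (by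
    rw [Category.assoc, pullback.condition, pullback.condition, ← Category.assoc, hφ₀])
  let p : pullback v w ⟶ X := pullback.fst v w ≫ v
  haveI : IsFinite (pullback.fst v w) := MorphismProperty.pullback_fst _ _ ‹IsFinite w›
  haveI : Etale (pullback.fst v w) := MorphismProperty.pullback_fst _ _ ‹Etale w›
  have hp : FEt.prop p := ⟨inferInstanceAs (IsFinite (pullback.fst v w ≫ v)), inferInstanceAs (Etale (pullback.fst v w ≫ v))⟩
  haveI : IsFinite p := hp.1
  haveI : Etale p := hp.2
  have hlp : l ≫ p = pullback.snd v u ≫ u := by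
    rw [pullback.lift_fst_assoc, pullback.condition]
  let l0 : pullback v u ⟶ pullback p u := pullback.lift l (pullback.snd v u) hlp
  haveI : IsClosedImmersion (l ≫ pullback.fst v w) := by rw [pullback.lift_fst]; infer_instance
  haveI : IsClosedImmersion l := IsClosedImmersion.of_comp l (pullback.fst v w)
  haveI : IsClosedImmersion (l0 ≫ pullback.fst p u) := by rw [pullback.lift_fst]; infer_instance
  haveI : IsClosedImmersion l0 := IsClosedImmersion.of_comp l0 (pullback.fst p u)
  haveI : Etale (pullback.snd p u) := MorphismProperty.pullback_snd _ _ ‹Etale p›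
  haveI : Etale (pullback.snd v u) := MorphismProperty.pullback_snd _ _ ‹Etale v›
  haveI : Etale (l0 ≫ pullback.snd p u) := by rw [pullback.lift_snd]; infer_instance
  haveI : Etale l0 := Etale.of_comp l0 (pullback.snd p u)
  haveI : IsOpenImmersion l0 := IsOpenImmersion.of_flat_of_mono l0
  have hfst : Set.range (pullback.fst p u) = p ⁻¹' Set.range u := Scheme.Pullback.range_fst p u
  have hSsub : Set.range l ⊆ p ⁻¹' Set.range u := by
    rintro _ ⟨a, rfl⟩
    exact ⟨pullback.snd v u a, by rw [← Scheme.Hom.comp_apply, ← hlp, Scheme.Hom.comp_apply]⟩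
  have hScompl : IsClosed (p ⁻¹' Set.range u \ Set.range l) := by
    have : p ⁻¹' Set.range u \ Set.range l = pullback.fst p u '' (Set.range l0)ᶜ := by
      rw [← hfst, Set.image_compl_eq_range_diff_image (pullback.fst p u).isClosedEmbedding.injective, ← Set.range_comp]
      congr 2
      refine funext fun a => ?_
      show l a = (l0 ≫ pullback.fst p u) a
      rw [pullback.lift_fst]
    rw [this]
    exact (pullback.fst p u).isClosedEmbedding.isClosedMap _ l0.isOpenEmbedding.isOpen_range.isClosed_compl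
  obtain ⟨G, G', hdis, hcov, hG⟩ := hsplit p hp _ l.isClosedEmbedding.isClosed_range hSsub hScompl
  let qP := pullback.fst v w
  let Δ : Set (pullback qP qP : Scheme.{u}) := Set.range (pullback.diagonal qP)
  haveI : IsFinite (pullback.fst qP qP) := MorphismProperty.pullback_fst _ _ ‹IsFinite (pullback.fst v w)›
  have hΔ : IsOpen Δ := (pullback.diagonal qP).isOpenEmbedding.isOpen_range
  let Bad : Set V := (pullback.fst qP qP ≫ qP) '' ((pullback.fst qP qP ⁻¹' (G' : Set _)ᶜ ∩
    pullback.snd qP qP ⁻¹' (G' : Set _)ᶜ) \ Δ)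
  have hBad : IsClosed Bad := (pullback.fst qP qP ≫ qP).isClosedMap _
    (((G'.2.isClosed_compl.preimage (pullback.fst qP qP).continuous).inter
      (G'.2.isClosed_compl.preimage (pullback.snd qP qP).continuous)).sdiff hΔ)
  let q : (G : Scheme.{u}) ⟶ V := G.ι ≫ qP
  let Good : V.Opens := ⟨Set.range q ∩ Badᶜ, q.isOpenMap.isOpen_range.inter hBad.isOpen_compl⟩
  have hGsub : ∀ x, x ∈ (G : Set (pullback v w : Scheme.{u})) → x ∈ (G' : Set (pullback v w : Scheme.{u}))ᶜ :=
    fun x hx hx' => hdis.le_bot ⟨hx, hx'⟩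
  have hgood : ∀ a : (pullback v u : Scheme.{u}), pullback.fst v u a ∈ Good := fun a => by
    have hla : l a ∈ G := (hG.ge ⟨a, rfl⟩).1
    refine ⟨⟨⟨l a, hla⟩, ?_⟩, ?_⟩
    · show qP (l a) = _
      rw [← Scheme.Hom.comp_apply, pullback.lift_fst]
    rintro ⟨y, ⟨⟨hy1, hy2⟩, hyΔ⟩, hya⟩
    have hqy : (pullback.snd qP qP ≫ qP) y = pullback.fst v u a := by rw [← pullback.condition]; exact hya
    let Eo : (pullback qP qP).Opens := pullback.fst qP qP ⁻¹ᵁ G ⊓ pullback.snd qP qP ⁻¹ᵁ G
    have hmem : ∀ (t : (pullback v w : Scheme.{u})), t ∉ G' → qP t = pullback.fst v u a → t ∈ G := fun t ht hta => by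
      refine (hcov ⟨pullback.snd v u a, ?_⟩).resolve_right ht
      show u (pullback.snd v u a) = v (qP t)
      rw [hta, ← Scheme.Hom.comp_apply, ← pullback.condition, Scheme.Hom.comp_apply]
    have hyE : y ∈ Eo := ⟨hmem _ hy1 (by rw [← Scheme.Hom.comp_apply]; exact hya),
      hmem _ hy2 (by rw [← Scheme.Hom.comp_apply]; exact hqy)⟩
    let e : (Eo : Scheme.{u}) ⟶ V := Eo.ι ≫ pullback.fst qP qP ≫ qP
    let k := pullback.snd e (pullback.fst v u)
    have key : ∀ α : pullback e (pullback.fst v u) ⟶ pullback v w, α ≫ qP = k ≫ pullback.fst v u →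
        (∀ t, α t ∈ G) → α = k ≫ l := fun α hα hαG => by
      have hαp : α ≫ p = (k ≫ pullback.snd v u) ≫ u := by
        rw [reassoc_of% hα, pullback.condition, Category.assoc]
      let α0 := pullback.lift α (k ≫ pullback.snd v u) hαp
      have hr : Set.range α0 ⊆ Set.range l0 := by
        rintro _ ⟨t, rfl⟩
        obtain ⟨b, hb⟩ := hG.le ⟨hαG t, by
          show p (α t) ∈ Set.range u
          rw [← Scheme.Hom.comp_apply, hαp, Scheme.Hom.comp_apply]
          exact ⟨_, rfl⟩⟩
        refine ⟨b, (pullback.fst p u).isClosedEmbedding.injective ?_⟩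
        rw [← Scheme.Hom.comp_apply, ← Scheme.Hom.comp_apply, pullback.lift_fst, pullback.lift_fst]
        exact hb
      let m := IsOpenImmersion.lift l0 α0 hr
      have hm : m ≫ l = α := by
        rw [← pullback.lift_fst (f := p) (g := u) l (pullback.snd v u) hlp, IsOpenImmersion.lift_fac_assoc,
          pullback.lift_fst]
      have hmk : m = k := by
        rw [← cancel_mono (pullback.fst v u)]
        refine Eq.trans ?_ hα
        rw [← hm, Category.assoc]
        exact congrArg (m ≫ ·) (pullback.lift_fst _ _ _).symm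
      rw [← hm, hmk]
    obtain ⟨z, hz, -⟩ := Scheme.Pullback.exists_preimage_pullback (f := e) (g := pullback.fst v u) ⟨y, hyE⟩ a hya
    have h1 := key (pullback.fst e _ ≫ Eo.ι ≫ pullback.fst qP qP) (by
      simp only [Category.assoc]; exact pullback.condition) fun t => (pullback.fst e (pullback.fst v u) t).2.1
    have h2 := key (pullback.fst e _ ≫ Eo.ι ≫ pullback.snd qP qP) (by
      simp only [Category.assoc, ← pullback.condition]; exact pullback.condition) fun t => (pullback.fst e (pullback.fst v u) t).2.2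
    have h3 : pullback.fst e (pullback.fst v u) ≫ Eo.ι = (k ≫ l) ≫ pullback.diagonal qP := by
      apply pullback.hom_ext
      · simp only [Category.assoc, pullback.diagonal_fst, Category.comp_id]
        rw [← h1]
      · simp only [Category.assoc, pullback.diagonal_snd, Category.comp_id]
        rw [← h2]
    refine hyΔ ⟨(k ≫ l) z, ?_⟩
    rw [← Scheme.Hom.comp_apply, ← h3, Scheme.Hom.comp_apply, hz]
    rfl
  let q' := q ∣_ Good
  haveI : Etale q' := MorphismProperty.of_isPullback (P := @Etale) (isPullback_morphismRestrict q Good).flip inferInstance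
  haveI : Surjective q' := ⟨fun b => by
    obtain ⟨g, hg⟩ := b.2.1
    exact ⟨⟨g, show q g ∈ Good from hg ▸ b.2⟩, Subtype.ext ((morphismRestrict_base_coe (f := q) (U := Good) ⟨g, _⟩).trans hg)⟩⟩
  haveI : Mono q' := ⟨fun {T} a b hab => by
    have hab' : ((a ≫ (q ⁻¹ᵁ Good).ι) ≫ G.ι) ≫ qP = ((b ≫ (q ⁻¹ᵁ Good).ι) ≫ G.ι) ≫ qP := by
      have := congrArg (· ≫ Good.ι) hab
      simp only [Category.assoc, q', morphismRestrict_ι] at this
      simpa [q, Category.assoc] using this
    let ab := pullback.lift _ _ hab'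
    have hr : Set.range ab ⊆ Set.range (pullback.diagonal qP) := by
      rintro _ ⟨t, rfl⟩
      by_contra hn
      have h1 : pullback.fst qP qP (ab t) = ((a ≫ (q ⁻¹ᵁ Good).ι) ≫ G.ι) t := by
        rw [← Scheme.Hom.comp_apply, pullback.lift_fst]
      have h2 : pullback.snd qP qP (ab t) = ((b ≫ (q ⁻¹ᵁ Good).ι) ≫ G.ι) t := by
        rw [← Scheme.Hom.comp_apply, pullback.lift_snd]
      refine (a t).2.2 ⟨ab t, ⟨⟨?_, ?_⟩, hn⟩, ?_⟩
      · show pullback.fst qP qP (ab t) ∈ (G' : Set _)ᶜ
        rw [h1]; exact hGsub _ ((a ≫ (q ⁻¹ᵁ Good).ι) t).2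
      · show pullback.snd qP qP (ab t) ∈ (G' : Set _)ᶜ
        rw [h2]; exact hGsub _ ((b ≫ (q ⁻¹ᵁ Good).ι) t).2
      · rw [Scheme.Hom.comp_apply, h1]; rfl
    let d := IsOpenImmersion.lift (pullback.diagonal qP) ab hr
    have hd : d ≫ pullback.diagonal qP = ab := IsOpenImmersion.lift_fac _ _ _
    have e1 := congrArg (· ≫ pullback.fst qP qP) hd
    have e2 := congrArg (· ≫ pullback.snd qP qP) hd
    simp only [Category.assoc, pullback.diagonal_fst, pullback.diagonal_snd, Category.comp_id, ab,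
      pullback.lift_fst, pullback.lift_snd] at e1 e2
    rw [← cancel_mono (q ⁻¹ᵁ Good).ι, ← cancel_mono G.ι, Category.assoc, Category.assoc]
    exact e1.symm.trans e2⟩
  haveI : IsOpenImmersion q' := IsOpenImmersion.of_flat_of_mono q'
  haveI : IsIso q' := (isIso_iff_isOpenImmersion_and_surjective _).2 ⟨inferInstance, inferInstance⟩
  let O : X.Opens := ⟨(v '' (Good : Set V)ᶜ)ᶜ, (v.isClosedMap _ Good.2.isClosed_compl).isOpen_compl⟩
  have hOG : v ⁻¹ᵁ O ≤ Good := fun b hb => by
    by_contra h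
    exact hb ⟨b, h, rfl⟩
  let φ : (v ⁻¹ᵁ O : Scheme.{u}) ⟶ W :=
    V.homOfLE hOG ≫ inv q' ≫ (q ⁻¹ᵁ Good).ι ≫ G.ι ≫ pullback.snd v w
  refine ⟨O, φ, ?_, ?_, fun m hm => ?_⟩
  · rintro _ ⟨x, rfl⟩ ⟨b, hb, hbx⟩
    obtain ⟨a, ha, -⟩ := Scheme.Pullback.exists_preimage_pullback (f := v) (g := u) b x hbx
    exact hb (ha ▸ hgood a)
  · have : inv q' ≫ (q ⁻¹ᵁ Good).ι ≫ q = Good.ι := by rw [IsIso.inv_comp_eq, morphismRestrict_ι]
    simp only [φ, Category.assoc, ← pullback.condition]
    rw [show inv q' ≫ (q ⁻¹ᵁ Good).ι ≫ G.ι ≫ pullback.fst v w ≫ v = (inv q' ≫ (q ⁻¹ᵁ Good).ι ≫ q) ≫ v by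
      simp [q, qP], this, Scheme.homOfLE_ι_assoc]
  · have hlG : Set.range l ⊆ Set.range G.ι := by
      rw [Scheme.Opens.range_ι]; rintro _ ⟨a, rfl⟩; exact (hG.ge ⟨a, rfl⟩).1
    let lG := IsOpenImmersion.lift G.ι l hlG
    have hlG' : lG ≫ G.ι = l := IsOpenImmersion.lift_fac _ _ _
    have hlq : lG ≫ q = pullback.fst v u := by
      show lG ≫ G.ι ≫ qP = _
      rw [reassoc_of% hlG']
      exact pullback.lift_fst _ _ _
    let lq := IsOpenImmersion.lift (q ⁻¹ᵁ Good).ι lG (by
      rw [Scheme.Opens.range_ι]; rintro _ ⟨a, rfl⟩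
      show q (lG a) ∈ Good
      rw [← Scheme.Hom.comp_apply, hlq]; exact hgood a)
    have hlq' : lq ≫ (q ⁻¹ᵁ Good).ι = lG := IsOpenImmersion.lift_fac _ _ _
    have : m ≫ V.homOfLE hOG ≫ inv q' = lq := by
      rw [← Category.assoc, IsIso.comp_inv_eq, ← cancel_mono Good.ι, Category.assoc, Scheme.homOfLE_ι, hm,
        Category.assoc, morphismRestrict_ι, reassoc_of% hlq', hlq]
    show m ≫ V.homOfLE hOG ≫ inv q' ≫ _ = _
    rw [reassoc_of% this, reassoc_of% hlq', reassoc_of% hlG']
    exact pullback.lift_snd _ _ _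

end NhdFaith
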