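import Groth.Agent.NhdFaithLib.Core
import Groth.Agent.NhdFaithLib.Hom

/-! # Splitting clopen pieces near the trace of a hypersurface -/

set_option autoImplicit false
set_option linter.style.haveILetI false
set_option backward.isDefEq.respectTransparency false
set_option backward.isDefEq.respectTransparency.types false
set_option maxHeartbeats 1000000

universe u

open CategoryTheory CategoryTheory.Limits AlgebraicGeometry TopologicalSpace

noncomputable section

namespace NhdFaith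

theorem splitAlong_of_locCoh_finite {A : Type u} [CommRing A] [IsNoetherianRing A] (f : A) (𝔞 : Ideal A)
    (hnzd : f ∈ nonZeroDivisors A) [IsAdicComplete (Ideal.span ({f} : Set A)) A]
    (h₁ : Module.Finite A (LocCoh.H 𝔞 1 (A ⧸ Ideal.span ({f} : Set A))))
    (U' : (Spec (CommRingCat.of A)).Opens) (hle : U' ≤ LocCoh.puncturedOpen A 𝔞)
    (hcont : ∀ x ∈ LocCoh.puncturedOpen A 𝔞, f ∈ x.asIdeal → x ∈ U') :
    SplitAlong (zl f U'.ι) := by
  intro P p hp S hS hSsub hSc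
  haveI : IsFinite p := hp.1
  haveI : Etale p := hp.2
  haveI : CompactSpace (U' : Scheme.{u}) :=
    isCompact_iff_compactSpace.mp (TopologicalSpace.NoetherianSpace.isCompact _)
  haveI : QuasiCompact U'.ι := inferInstance
  let π := p ≫ U'.ι
  haveI : LocallyQuasiFinite π := inferInstanceAs (LocallyQuasiFinite (p ≫ U'.ι))
  haveI : LocallyOfFinitePresentation π := inferInstanceAs (LocallyOfFinitePresentation (p ≫ U'.ι))
  haveI : IsSeparated π := inferInstanceAs (IsSeparated (p ≫ U'.ι))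
  haveI : QuasiCompact π := inferInstanceAs (QuasiCompact (p ≫ U'.ι))
  obtain ⟨T, j, π', hjo, -, hfin, -, hjπ⟩ := FinSurjLib.exists_finite_factorization π
  haveI := hjo
  haveI := hfin
  haveI : IsAffine T := isAffine_of_isAffineHom π'
  obtain ⟨φ, hφ⟩ := Spec.map_surjective (T.isoSpec.inv ≫ π')
  letI : Algebra A Γ(T, ⊤) := φ.hom.toAlgebra
  haveI : IsFinite (Spec.map φ) := by rw [hφ]; infer_instance
  haveI : Module.Finite A Γ(T, ⊤) := (IsFinite.SpecMap_iff φ).1 inferInstance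
  have hSeq : (⟨(p ⁻¹' zl f U'.ι \ S)ᶜ, hSc.isOpen_compl⟩ : P.Opens).1 ∩ zl f (p ≫ U'.ι) = S := by
    refine Set.ext fun z => ⟨fun ⟨h1, h2⟩ => ?_, fun hz => ⟨fun h => h.2 hz, hSsub hz⟩⟩
    by_contra hzS
    exact h1 ⟨h2, hzS⟩
  obtain ⟨K, hK, hKS, hKn⟩ := exists_closed_aux f 𝔞 hle hcont p hp hnzd h₁ Γ(T, ⊤) (j ≫ T.isoSpec.hom)
    (by
      show (j ≫ T.isoSpec.hom) ≫ Spec.map φ = _
      rw [hφ, Category.assoc, Iso.hom_inv_id_assoc]
      exact hjπ)
    ⟨(p ⁻¹' zl f U'.ι \ S)ᶜ, hSc.isOpen_compl⟩ (by exact (congrArg IsClosed hSeq).mpr hS)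
  refine ⟨⟨interior K, isOpen_interior⟩, ⟨Kᶜ, hK.isOpen_compl⟩, ?_, fun z hz => ?_, ?_⟩
  · exact (disjoint_compl_right (a := K)).mono_left interior_subset
  · by_cases hzK : z ∈ K
    · exact Or.inl (mem_interior_iff_mem_nhds.2 (hKn z ⟨hKS ⟨hzK, hz⟩, hz⟩))
    · exact Or.inr hzK
  · refine Set.ext fun z => ⟨fun ⟨h1, h2⟩ => hSeq.le ⟨hKS ⟨interior_subset h1, h2⟩, h2⟩, fun hz => ?_⟩
    exact ⟨mem_interior_iff_mem_nhds.2 (hKn z (hSeq.ge hz)), hSsub hz⟩

end NhdFaith
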