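import Groth.Agent.NhdFaithLib.Over
import Groth.Agent.NhdFaithLib.Split

/-! # The punctured spectrum and the trace of a hypersurface -/

set_option autoImplicit false
set_option linter.style.haveILetI false
set_option backward.isDefEq.respectTransparency false
set_option backward.isDefEq.respectTransparency.types false
set_option maxHeartbeats 1000000

universe u

open CategoryTheory CategoryTheory.Limits AlgebraicGeometry TopologicalSpace

noncomputable section

namespace NhdFaith

variable {A : Type u} [CommRing A] [IsLocalRing A] (f : A)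

theorem puncturedOpen_maximalIdeal :
    LocCoh.puncturedOpen A (IsLocalRing.maximalIdeal A) = FEt.puncturedSpec A := by
  refine Opens.ext ?_
  show (PrimeSpectrum.zeroLocus ((IsLocalRing.maximalIdeal A : Ideal A) : Set A))ᶜ = {IsLocalRing.closedPoint A}ᶜ
  refine congrArg compl (Set.ext fun q => ⟨fun h => ?_, ?_⟩)
  · exact PrimeSpectrum.ext ((IsLocalRing.maximalIdeal.isMaximal A).eq_of_le q.isPrime.ne_top h).symm
  · rintro rfl
    exact fun a ha => ha

variable (U : (Spec (CommRingCat.of A)).Opens)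


omit [IsLocalRing A] in
theorem mem_range_fst_iff (x : Spec (CommRingCat.of A)) :
    x ∈ Set.range (pullback.fst U.ι (Spec.map (CommRingCat.ofHom (Ideal.Quotient.mk (Ideal.span ({f} : Set A))))) ≫ U.ι) ↔
      x ∈ U ∧ f ∈ x.asIdeal := by
  rw [Scheme.Pullback.range_fst_comp, Scheme.Opens.range_ι, Set.mem_inter_iff]
  refine and_congr Iff.rfl ?_
  show x ∈ Set.range (PrimeSpectrum.comap (Ideal.Quotient.mk (Ideal.span ({f} : Set A)))) ↔ _
  rw [range_comap_of_surjective _ _ Ideal.Quotient.mk_surjective, PrimeSpectrum.mem_zeroLocus, Ideal.mk_ker]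
  exact ⟨fun h => h (Ideal.mem_span_singleton_self f), fun h => (Ideal.span_singleton_le_iff_mem _).2 h⟩

omit [IsLocalRing A] in
theorem trace_props (U' : (Spec (CommRingCat.of A)).Opens) (hle : U' ≤ U)
    (u' : pullback U.ι (Spec.map (CommRingCat.ofHom (Ideal.Quotient.mk (Ideal.span ({f} : Set A))))) ⟶ (U' : Scheme.{u}))
    (hu' : u' ≫ U'.ι = pullback.fst U.ι _ ≫ U.ι) :
    (∀ x ∈ U, f ∈ x.asIdeal → x ∈ U') ∧ IsClosedImmersion u' ∧ Set.range u' = zl f U'.ι := by
  haveI : IsClosedImmersion (Spec.map (CommRingCat.ofHom (Ideal.Quotient.mk (Ideal.span ({f} : Set A))))) :=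
    IsClosedImmersion.spec_of_surjective _ Ideal.Quotient.mk_surjective
  have hcont : ∀ x ∈ U, f ∈ x.asIdeal → x ∈ U' := fun x hx hfx => by
    obtain ⟨t, ht⟩ := (mem_range_fst_iff f U x).2 ⟨hx, hfx⟩
    rw [← hu', Scheme.Hom.comp_apply] at ht
    exact ht ▸ (u' t).2
  have hrange : Set.range u' = zl f U'.ι := by
    refine Set.ext fun y => ⟨?_, fun hy => ?_⟩
    · rintro ⟨t, rfl⟩
      show f ∈ (U'.ι (u' t)).asIdeal
      rw [← Scheme.Hom.comp_apply, hu']
      exact ((mem_range_fst_iff f U _).1 ⟨t, rfl⟩).2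
    · obtain ⟨t, ht⟩ := (mem_range_fst_iff f U (U'.ι y)).2 ⟨hle y.2, hy⟩
      rw [← hu', Scheme.Hom.comp_apply] at ht
      exact ⟨t, U'.ι.isOpenEmbedding.injective ht⟩
  haveI : IsPreimmersion (u' ≫ U'.ι) := by rw [hu']; infer_instance
  haveI : IsPreimmersion u' := IsPreimmersion.of_comp u' U'.ι
  exact ⟨hcont, IsClosedImmersion.of_isPreimmersion u' (hrange ▸ isClosed_zl f U'.ι), hrange⟩

end NhdFaith
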