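import Groth.Agent.NhdFaithLib.Combine
import Groth.Agent.NhdFaithLib.Modification
import Groth.Agent.NhdFaithLib.Punctured

/-! # Splitting near the trace of a hypersurface when a dualizing complex exists -/

set_option autoImplicit false
set_option linter.style.haveILetI false
set_option backward.isDefEq.respectTransparency false
set_option backward.isDefEq.respectTransparency.types false
set_option maxHeartbeats 1000000
set_option synthInstance.maxHeartbeats 400000

universe u

open CategoryTheory CategoryTheory.Limits AlgebraicGeometry TopologicalSpace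

attribute [local instance] HasDerivedCategory.standard

noncomputable section

namespace NhdFaith

theorem preimage_puncturedOpen {A B : Type u} [CommRing A] [CommRing B] [Algebra A B] (𝔞 : Ideal A) :
    Spec.map (CommRingCat.ofHom (algebraMap A B)) ⁻¹ᵁ LocCoh.puncturedOpen A 𝔞 =
      LocCoh.puncturedOpen B (𝔞.map (algebraMap A B)) := by
  refine Opens.ext (Set.ext fun w => not_congr ?_)
  show (𝔞 : Set A) ⊆ _ ↔ ((𝔞.map (algebraMap A B) : Ideal B) : Set B) ⊆ w.asIdeal
  rw [SetLike.coe_subset_coe, SetLike.coe_subset_coe, Ideal.map_le_iff_le_comap]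
  rfl

theorem modifiable_of_dualizing {A : Type u} [CommRing A] [IsNoetherianRing A] [IsLocalRing A] {ω : Dual.D A}
    (hω : Dual.IsDualizing A ω) (f : A) [IsAdicComplete (Ideal.span ({f} : Set A)) A]
    (U' : (Spec (CommRingCat.of A)).Opens) (hle : U' ≤ LocCoh.puncturedOpen A (IsLocalRing.maximalIdeal A))
    (hcont : ∀ x ∈ LocCoh.puncturedOpen A (IsLocalRing.maximalIdeal A), f ∈ x.asIdeal → x ∈ U')
    (P : Ideal A) [P.IsPrime] (hfP : f ∉ P) (hdim : (3 : WithBot ℕ∞) ≤ ringKrullDim (A ⧸ P)) :
    Modifiable f U' P := by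
  let D := A ⧸ P
  let K := FractionRing D
  have hker : ∀ a : A, algebraMap A K a = 0 ↔ a ∈ P := fun a => by
    rw [IsScalarTower.algebraMap_apply A D K, map_eq_zero_iff _ (IsFractionRing.injective D K)]
    exact Ideal.Quotient.eq_zero_iff_mem
  have hfrac : ∀ x : K, ∃ a s : A, s ∉ P ∧ algebraMap A K s * x = algebraMap A K a := fun x => by
    obtain ⟨⟨a, s⟩, hx⟩ := IsLocalization.surj (nonZeroDivisors D) x
    obtain ⟨a', ha'⟩ := Ideal.Quotient.mk_surjective a
    obtain ⟨s', hs'⟩ := Ideal.Quotient.mk_surjective (s : D)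
    refine ⟨a', s', fun h => nonZeroDivisors.ne_zero s.2 (hs' ▸ Ideal.Quotient.eq_zero_iff_mem.2 h), ?_⟩
    rw [IsScalarTower.algebraMap_apply A D K, IsScalarTower.algebraMap_apply A D K a', Ideal.Quotient.algebraMap_eq,
      hs', ha', mul_comm]
    exact hx
  obtain ⟨B, hfin, hnz, hcomp, h1⟩ := exists_modification hω P f K hdim hfP hker hfrac
  haveI := hfin
  haveI := hcomp
  haveI : IsNoetherianRing B := IsNoetherianRing.of_finite A B
  refine ⟨B, inferInstance, inferInstance, hfin, Ideal.ext fun a => ?_, ?_⟩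
  · rw [RingHom.mem_ker, ← hker]
    exact ⟨fun h => congrArg Subtype.val h, fun h => Subtype.ext h⟩
  · exact splitAlong_of_locCoh_finite (algebraMap A B f) ((IsLocalRing.maximalIdeal A).map (algebraMap A B)) hnz h1 _
      (fun w hw => preimage_puncturedOpen (B := B) (IsLocalRing.maximalIdeal A) ▸
        (show w ∈ Spec.map (CommRingCat.ofHom (algebraMap A B)) ⁻¹ᵁ LocCoh.puncturedOpen A (IsLocalRing.maximalIdeal A) from hle hw))
      (fun w hw hfw => hcont _ (by
        rw [← preimage_puncturedOpen (B := B) (IsLocalRing.maximalIdeal A)] at hw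
        exact hw) hfw)

theorem splitAlong_of_dualizing {A : Type u} [CommRing A] [IsNoetherianRing A] [IsLocalRing A] {ω : Dual.D A}
    (hω : Dual.IsDualizing A ω) (f : A) [IsAdicComplete (Ideal.span ({f} : Set A)) A]
    (hc : ∀ p : Ideal A, p ∈ minimalPrimes A → f ∉ p → (3 : WithBot ℕ∞) ≤ ringKrullDim (A ⧸ p))
    (U' : (Spec (CommRingCat.of A)).Opens) (hle : U' ≤ LocCoh.puncturedOpen A (IsLocalRing.maximalIdeal A))
    (hcont : ∀ x ∈ LocCoh.puncturedOpen A (IsLocalRing.maximalIdeal A), f ∈ x.asIdeal → x ∈ U') :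
    SplitAlong (zl f U'.ι) :=
  splitAlong_of_modifiable f U' fun P hP hfP =>
    haveI : P.IsPrime := hP.1.1
    modifiable_of_dualizing hω f U' hle hcont P hfP (hc P hP hfP)

end NhdFaith
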