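import Groth.Agent.NhdFaithLib.Split
import Mathlib.RingTheory.Ideal.MinimalPrime.Noetherian

/-! # Splittings from finite modifications of the components -/

set_option autoImplicit false
set_option linter.style.haveILetI false
set_option backward.isDefEq.respectTransparency false
set_option backward.isDefEq.respectTransparency.types false
set_option maxHeartbeats 1000000

universe u

open CategoryTheory CategoryTheory.Limits AlgebraicGeometry TopologicalSpace

noncomputable section

namespace NhdFaith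

/-- A finite map to one component along which clopen pieces split. -/
def Modifiable {A : Type u} [CommRing A] (f : A) (U' : (Spec (CommRingCat.of A)).Opens) (P : Ideal A) : Prop :=
  ∃ (B : Type u) (_ : CommRing B) (_ : Algebra A B), Module.Finite A B ∧ RingHom.ker (algebraMap A B) = P ∧
    SplitAlong (zl (algebraMap A B f) (Spec.map (CommRingCat.ofHom (algebraMap A B)) ⁻¹ᵁ U').ι)

theorem splitAlong_of_modifiable {A : Type u} [CommRing A] [IsNoetherianRing A] (f : A)
    (U' : (Spec (CommRingCat.of A)).Opens) (h : ∀ P ∈ minimalPrimes A, f ∉ P → Modifiable f U' P) :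
    SplitAlong (zl f U'.ι) := by
  classical
  intro Q p hp S hS hSsub hSc
  haveI : IsFinite p := hp.1
  haveI : Etale p := hp.2
  let I : Type u := {P : Ideal A // P ∈ minimalPrimes A ∧ f ∉ P}
  haveI : Finite I := ((minimalPrimes.finite_of_isNoetherianRing A).subset fun P hP => hP.1).to_subtype
  choose B hB1 hB2 hBfin hBker hBsplit using fun i : I => h i.1 i.2.1 i.2.2
  let π := fun i => Spec.map (CommRingCat.ofHom (@algebraMap A (B i) _ _ (hB2 i)))
  let r := fun i => π i ∣_ U'
  let b := fun i => pullback.fst p (r i)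
  let p' := fun i => pullback.snd p (r i)
  haveI : ∀ i, IsFinite (π i) := fun i => (IsFinite.SpecMap_iff _).2 (by
    exact @RingHom.finite_algebraMap A (B i) _ _ (hB2 i) |>.2 (hBfin i))
  haveI : ∀ i, IsFinite (b i) := fun i =>
    MorphismProperty.pullback_fst _ _ (MorphismProperty.of_isPullback (P := @IsFinite) (isPullback_morphismRestrict (π i) U').flip inferInstance)
  have hp' : ∀ i, FEt.prop (p' i) := fun i =>
    ⟨MorphismProperty.pullback_snd _ _ ‹IsFinite p›, MorphismProperty.pullback_snd _ _ ‹Etale p›⟩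
  have hpt : ∀ i t, U'.ι (p (b i t)) = π i ((π i ⁻¹ᵁ U').ι (p' i t)) := fun i t => by
    rw [← Scheme.Hom.comp_apply, ← Scheme.Hom.comp_apply, ← Scheme.Hom.comp_apply, ← Scheme.Hom.comp_apply]
    have e : (b i ≫ p) ≫ U'.ι = (p' i ≫ (π i ⁻¹ᵁ U').ι) ≫ π i := by
      show (pullback.fst p (r i) ≫ p) ≫ U'.ι = (pullback.snd p (r i) ≫ (π i ⁻¹ᵁ U').ι) ≫ π i
      rw [pullback.condition, Category.assoc, Category.assoc, morphismRestrict_ι]
    rw [Category.assoc, Category.assoc] at e
    rw [e]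
  have hzl : ∀ i t, t ∈ p' i ⁻¹' zl (@algebraMap A (B i) _ _ (hB2 i) f) (π i ⁻¹ᵁ U').ι ↔ b i t ∈ p ⁻¹' zl f U'.ι :=
    fun i t => by
      show _ ↔ f ∈ (U'.ι (p (b i t))).asIdeal
      rw [hpt]
      exact Iff.rfl
  have hpre : ∀ i, p' i ⁻¹' zl (@algebraMap A (B i) _ _ (hB2 i) f) (π i ⁻¹ᵁ U').ι = b i ⁻¹' (p ⁻¹' zl f U'.ι) :=
    fun i => Set.ext (hzl i)
  have hsp := fun i => hBsplit i (p' i) (hp' i) (b i ⁻¹' S) (hS.preimage (b i).continuous)
    (hpre i ▸ Set.preimage_mono hSsub) (by rw [hpre]; exact hSc.preimage (b i).continuous)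
  choose G G' hdis hcov hG using hsp
  let K : Set Q := S ∪ ⋃ i, b i '' (G' i : Set _)ᶜ
  have hK : IsClosed K := hS.union (isClosed_iUnion_of_finite fun i => (b i).isClosedMap _ (G' i).2.isClosed_compl)
  have hKS : ∀ z ∈ K, z ∈ p ⁻¹' zl f U'.ι → z ∈ S := by
    rintro z (hz | hz) hzl'
    · exact hz
    · obtain ⟨i, t, ht, rfl⟩ := Set.mem_iUnion.1 hz
      exact ((hG i).le ⟨(hcov i ((hzl i t).2 hzl')).resolve_right ht, (hzl i t).2 hzl'⟩)
  let O : Set Q := (p ⁻¹' zl f U'.ι \ S)ᶜ ∩ ⋂ i, (b i '' (G i : Set _)ᶜ)ᶜ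
  have hO : IsOpen O := hSc.isOpen_compl.inter
    (isOpen_iInter_of_finite fun i => ((b i).isClosedMap _ (G i).2.isClosed_compl).isOpen_compl)
  have hSO : S ⊆ O := fun z hz => ⟨fun h => h.2 hz, Set.mem_iInter.2 fun i => by
    rintro ⟨t, ht, rfl⟩
    exact ht ((hG i).ge hz).1⟩
  have hOK : O ⊆ K := fun z hz => by
    let x : PrimeSpectrum A := U'.ι (p z)
    obtain ⟨P, hP, hPx⟩ := Ideal.exists_minimalPrimes_le (I := (⊥ : Ideal A)) (J := x.asIdeal) bot_le
    by_cases hfP : f ∈ P
    · refine Or.inl ?_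
      by_contra hzS
      exact hz.1 ⟨hPx hfP, hzS⟩
    · let i : I := ⟨P, hP, hfP⟩
      obtain ⟨w, hw⟩ : ∃ w, π i w = x := by
        letI := hB1 i
        letI := hB2 i
        haveI := hBfin i
        obtain ⟨w, -, hw1, hw2⟩ := Ideal.exists_ideal_over_prime_of_isIntegral x.asIdeal (⊥ : Ideal (B i))
          ((hBker i).le.trans hPx)
        exact ⟨⟨w, hw1⟩, PrimeSpectrum.ext hw2⟩
      have hwU : w ∈ π i ⁻¹ᵁ U' := by
        show π i w ∈ U'
        rw [hw]; exact (p z).2
      obtain ⟨t, ht, -⟩ := Scheme.Pullback.exists_preimage_pullback (f := p) (g := r i) z ⟨w, hwU⟩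
        (U'.ι.isOpenEmbedding.injective (hw.symm.trans (by
          rw [← Scheme.Hom.comp_apply (r i), morphismRestrict_ι]; rfl)))
      refine Or.inr (Set.mem_iUnion.2 ⟨i, t, fun htG' => ?_, ht⟩)
      have htG : t ∈ (G i : Set _) := by
        by_contra h'
        exact Set.mem_iInter.1 hz.2 i ⟨t, h', ht⟩
      exact (hdis i).le_bot ⟨htG, htG'⟩
  refine ⟨⟨interior K, isOpen_interior⟩, ⟨Kᶜ, hK.isOpen_compl⟩, (disjoint_compl_right (a := K)).mono_left interior_subset,
    fun z hz => ?_, Set.ext fun z => ⟨fun hz => hKS z (interior_subset hz.1) hz.2,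
      fun hz => ⟨interior_maximal hOK hO (hSO hz), hSsub hz⟩⟩⟩
  by_cases hzK : z ∈ K
  · exact Or.inl (interior_maximal hOK hO (hSO (hKS z hzK hz)))
  · exact Or.inr hzK

end NhdFaith
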