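import Groth.Agent.NhdFaithLib.Tower
import Groth.Agent.FinSurjLib.Zmt
import Mathlib.RingTheory.Filtration
import Mathlib.LinearAlgebra.Matrix.Charpoly.LinearMap

/-! # Lifting a clopen piece of the trace of a hypersurface to a closed neighbourhood -/

set_option autoImplicit false
set_option linter.style.haveILetI false
set_option backward.isDefEq.respectTransparency false
set_option backward.isDefEq.respectTransparency.types false
set_option maxHeartbeats 1000000
set_option synthInstance.maxHeartbeats 400000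

universe u

open CategoryTheory CategoryTheory.Limits AlgebraicGeometry TopologicalSpace Opposite

noncomputable section

namespace NhdFaith

/-- Cayley–Hamilton: if multiplication by `r` maps a finite module into `I • ⊤`, a unit mod any prime over `I`
avoiding `r` kills the module. -/
theorem exists_smul_eq_zero {R M : Type u} [CommRing R] [AddCommGroup M] [Module R M] [Module.Finite R M]
    (I q : Ideal R) [q.IsPrime] (hIq : I ≤ q) (r : R) (hr : r ∉ q)
    (h : ∀ b : M, r • b ∈ I • (⊤ : Submodule R M)) : ∃ t : R, t ∉ q ∧ ∀ b : M, t • b = 0 := by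
  obtain ⟨P, hP, -, hcoeff, hP0⟩ :=
    LinearMap.exists_monic_and_natDegree_eq_and_coeff_mem_pow_and_aeval_eq_zero R
      (algebraMap R (Module.End R M) r) I (by rintro _ ⟨b, rfl⟩; exact h b)
  refine ⟨P.eval r, fun hq => hr ?_, fun b => ?_⟩
  · have h1 : ∀ k < P.natDegree, P.coeff k * r ^ k ∈ q := fun k hk => by
      refine q.mul_mem_right _ (hIq ?_)
      exact (Ideal.pow_le_self (Nat.sub_ne_zero_of_lt hk)) (hcoeff k)
    rw [Polynomial.eval_eq_sum_range, Finset.sum_range_succ, hP.coeff_natDegree, one_mul] at hq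
    have h2 := (Ideal.add_mem_iff_right q (q.sum_mem fun k hk => h1 k (Finset.mem_range.1 hk))).1 hq
    exact Ideal.IsPrime.mem_of_pow_mem inferInstance _ h2
  · rw [Polynomial.aeval_algebraMap_apply] at hP0
    have := congrArg (fun e : Module.End R M => e b) hP0
    simpa [Polynomial.coe_aeval_eq_eval] using this

variable {A : Type u} [CommRing A] (f : A) (𝔞 : Ideal A)
  {U' : (Spec (CommRingCat.of A)).Opens} (hle : U' ≤ LocCoh.puncturedOpen A 𝔞)
  (hcont : ∀ x ∈ LocCoh.puncturedOpen A 𝔞, f ∈ x.asIdeal → x ∈ U')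
  {P : Scheme.{u}} (p : P ⟶ (U' : Scheme.{u})) (hp : FEt.prop p)

include hle hcont hp in
theorem exists_closed_aux [IsNoetherianRing A] (hnzd : f ∈ nonZeroDivisors A)
    [IsAdicComplete (Ideal.span ({f} : Set A)) A]
    (h₁ : Module.Finite A (LocCoh.H 𝔞 1 (A ⧸ Ideal.span ({f} : Set A))))
    (R : Type u) [CommRing R] [Algebra A R] [Module.Finite A R]
    (j : P ⟶ Spec (CommRingCat.of R)) [IsOpenImmersion j]
    (hj : j ≫ Spec.map (CommRingCat.ofHom (algebraMap A R)) = p ≫ U'.ι)
    (W : P.Opens) (hW : IsClosed ((W : Set P) ∩ zl f (p ≫ U'.ι))) :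
    ∃ K : Set P, IsClosed K ∧ K ∩ zl f (p ≫ U'.ι) ⊆ W ∧
      ∀ z ∈ (W : Set P) ∩ zl f (p ≫ U'.ι), K ∈ nhds z := by
  haveI : IsNoetherianRing R := IsNoetherianRing.of_finite A R
  let hl := (Spec (CommRingCat.of A)).homOfLE hle
  let w := W.ι ≫ p ≫ hl ≫ (LocCoh.puncturedOpen A 𝔞).ι
  let C := cov f 𝔞 hle hcont p hp W hW
  obtain ⟨hfin, hker⟩ := finite_and_ker C hnzd h₁
  let h : ∀ n, C.Y n ⟶ Spec (CommRingCat.of R) := fun n => CohB1.thickι w (Ideal.span {f}) n ≫ W.ι ≫ j
  have hpi : p ≫ hl ≫ (LocCoh.puncturedOpen A 𝔞).ι = p ≫ U'.ι := by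
    show p ≫ (Spec (CommRingCat.of A)).homOfLE hle ≫ _ = _
    rw [Scheme.homOfLE_ι]
  have hφA : ∀ n, h n ≫ Spec.map (CommRingCat.ofHom (algebraMap A R)) = C.Y n ↘ Spec (CommRingCat.of A) := fun n => by
    show (CohB1.thickι w _ n ≫ W.ι ≫ j) ≫ _ = _
    rw [Category.assoc, Category.assoc, hj, ← hpi]
    refine pullback.condition.trans ?_
    show CohB1.thickToBase w (Ideal.span {f}) n ≫ _ = C.p n ≫ _
    congr 1
    show _ = (thickMap _ _ _ n ≫ thickMap _ _ _ n ≫ thickMap _ _ _ n) ≫ _
    rw [Category.assoc, Category.assoc, thickMap_snd, thickMap_snd, thickMap_snd]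
  let ψn : ∀ n, R →+* PurityLiftLib.SY C n := fun n =>
    (h n).appTop.hom.comp (Scheme.ΓSpecIso (CommRingCat.of R)).inv.hom
  have hs : ∀ n, C.s n ≫ h (n + 1) = h n := fun n => by
    show CohB1.thickTrans w _ n ≫ CohB1.thickι w _ (n + 1) ≫ W.ι ≫ j = CohB1.thickι w _ n ≫ W.ι ≫ j
    rw [← Category.assoc, PicLiftLib.trans_ι]
  let ψ : R →+* PurityLiftLib.B C := (RingHom.pi ψn).codRestrict (PurityLiftLib.B C) fun r n => by
    show (C.s n).appTop ((h (n + 1)).appTop _) = (h n).appTop _
    rw [← ConcreteCategory.comp_apply, ← Scheme.Hom.comp_appTop, hs]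
  letI : Algebra R (PurityLiftLib.B C) := ψ.toAlgebra
  haveI : IsScalarTower A R (PurityLiftLib.B C) := IsScalarTower.of_algebraMap_eq fun a => Subtype.ext (funext fun n => by
    show PurityLiftLib.aY C n a = (h n).appTop ((Scheme.ΓSpecIso (CommRingCat.of R)).inv (algebraMap A R a))
    show (C.Y n ↘ Spec (CommRingCat.of A)).appTop ((Scheme.ΓSpecIso (CommRingCat.of A)).inv a) = _
    rw [← hφA, Scheme.Hom.comp_appTop, ConcreteCategory.comp_apply]
    refine congrArg (h n).appTop ?_
    exact (ConcreteCategory.congr_hom (Scheme.ΓSpecIso_inv_naturality (CommRingCat.ofHom (algebraMap A R))) a).symm)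
  haveI : Module.Finite R (PurityLiftLib.B C) := Module.Finite.of_restrictScalars_finite A R _
  let fR := algebraMap A R f
  have hzl : ∀ z : P, z ∈ zl f (p ≫ U'.ι) ↔ fR ∈ (j z).asIdeal := fun z => by
    show f ∈ ((p ≫ U'.ι) z).asIdeal ↔ _
    rw [← hj, Scheme.Hom.comp_apply]
    exact Iff.rfl
  refine ⟨j ⁻¹' PrimeSpectrum.zeroLocus (RingHom.ker ψ : Set R),
    (PrimeSpectrum.isClosed_zeroLocus _).preimage j.continuous, ?_, ?_⟩
  · rintro z ⟨hzK, hz⟩
    by_contra hzW
    let S : Set (PrimeSpectrum R) := j '' ((W : Set P) ∩ zl f (p ≫ U'.ι))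
    have hzS : (j z : PrimeSpectrum R) ∉ closure S := fun hc => by
      have : z ∈ closure ((W : Set P) ∩ zl f (p ≫ U'.ι)) := by
        rw [j.isOpenEmbedding.isInducing.closure_eq_preimage_closure_image]; exact hc
      exact hzW (hW.closure_eq ▸ this : z ∈ (W : Set P) ∩ zl f (p ≫ U'.ι)).1
    rw [← PrimeSpectrum.zeroLocus_vanishingIdeal_eq_closure] at hzS
    obtain ⟨r, hr, hrz⟩ := Set.not_subset.1 (fun hsub => hzS ((PrimeSpectrum.mem_zeroLocus _ _).2 hsub))
    have hnil : IsNilpotent (ψn 0 r) := by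
      haveI : AlgebraicGeometry.IsNoetherian (C.Y 0) := inferInstance
      rw [Scheme.isNilpotent_iff_basicOpen_eq_bot]
      refine Opens.ext (Set.eq_empty_of_forall_notMem fun t ht => ?_)
      have ht' : h 0 t ∈ (PrimeSpectrum.basicOpen r : Set (PrimeSpectrum R)) := by
        have h2 : t ∈ (h 0) ⁻¹ᵁ (Spec (CommRingCat.of R)).basicOpen ((Scheme.ΓSpecIso (CommRingCat.of R)).inv r) := by
          rw [Scheme.preimage_basicOpen_top]; exact ht
        rwa [basicOpen_eq_of_affine] at h2
        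
      refine ht' ((PrimeSpectrum.mem_vanishingIdeal _ _).1 hr _ ⟨W.ι (CohB1.thickι w _ 0 t), ⟨?_, ?_⟩, rfl⟩)
      · exact (CohB1.thickι w _ 0 t).2
      · show f ∈ ((p ≫ U'.ι) (W.ι (CohB1.thickι w _ 0 t))).asIdeal
        have := mem_zl_thick f w 0 t
        rw [← hpi]
        exact this
    obtain ⟨k, hk⟩ := hnil
    haveI := (j z).isPrime
    obtain ⟨t, ht, htb⟩ := exists_smul_eq_zero (M := PurityLiftLib.B C) (Ideal.span {fR}) (j z).asIdeal
      ((Ideal.span_singleton_le_iff_mem _).2 ((hzl z).1 hz)) (r ^ k) (fun h' => hrz (Ideal.IsPrime.mem_of_pow_mem inferInstance _ h'))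
      (fun b => by
        obtain ⟨b', hb'⟩ := hker (r ^ k • b) (by
          rw [Algebra.smul_def, map_mul]
          show ψn 0 (r ^ k) * _ = 0
          rw [map_pow, hk, zero_mul])
        rw [← hb', ← algebraMap_smul R f b']
        exact Submodule.smul_mem_smul (Ideal.mem_span_singleton_self _) trivial)
    refine ht (hzK ?_)
    show ψ t = 0
    have := htb 1
    rwa [Algebra.smul_def, mul_one] at this
  · rintro z ⟨hzW, hz⟩
    let q := (j z).asIdeal
    haveI : q.IsPrime := (j z).isPrime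
    let L := Localization.AtPrime q
    have hsub : ∀ r, ψ r = 0 → algebraMap R L r = 0 := fun r hr => by
      let fL := algebraMap A L f
      have hfL : Ideal.span {fL} ≠ ⊤ := fun htop => by
        have hu : IsUnit fL := Ideal.span_singleton_eq_top.1 htop
        rw [show fL = algebraMap R L fR from IsScalarTower.algebraMap_apply A R L f,
          IsLocalization.AtPrime.isUnit_to_map_iff L q] at hu
        exact hu ((hzl z).1 hz)
      suffices hmem : ∀ n, algebraMap R L r ∈ Ideal.span {fL} ^ n by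
        have : algebraMap R L r ∈ ⨅ n, Ideal.span {fL} ^ n := Submodule.mem_iInf _ |>.2 hmem
        rwa [Ideal.iInf_pow_eq_bot_of_isLocalRing _ hfL] at this
      rintro (_ | n)
      · rw [pow_zero, Ideal.one_eq_top]; trivial
      let e := Spec.map (CommRingCat.ofHom (algebraMap R L))
      have hrange : Set.range e ⊆ Set.range (W.ι ≫ j) := by
        rintro _ ⟨t, rfl⟩
        have hspec : (e t : PrimeSpectrum R) ⤳ j z := by
          rw [← PrimeSpectrum.le_iff_specializes]
          exact (IsLocalization.AtPrime.orderIsoOfPrime L q ⟨t.asIdeal, t.isPrime⟩).2.2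
        exact hspec.mem_open (W.ι ≫ j).isOpenEmbedding.isOpen_range ⟨⟨z, hzW⟩, rfl⟩
      let l := IsOpenImmersion.lift (W.ι ≫ j) e hrange
      have hl' : l ≫ W.ι ≫ j = e := IsOpenImmersion.lift_fac _ _ _
      let Q := L ⧸ Ideal.span {fL} ^ (n + 1)
      let m := Spec.map (CommRingCat.ofHom (Ideal.Quotient.mk (Ideal.span {fL} ^ (n + 1))))
      let g : A ⧸ Ideal.span {f} ^ (n + 1) →+* Q := Ideal.quotientMap _ (algebraMap A L) (by
        rw [← Ideal.map_le_iff_le_comap, Ideal.map_pow, Ideal.map_span, Set.image_singleton])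
      have hwA : w = W.ι ≫ j ≫ Spec.map (CommRingCat.ofHom (algebraMap A R)) := by rw [hj, ← hpi]
      let ξ : Spec (CommRingCat.of Q) ⟶ C.Y n := pullback.lift (m ≫ l) (Spec.map (CommRingCat.ofHom g)) (by
        show (m ≫ l) ≫ w = _
        rw [hwA, Category.assoc, reassoc_of% hl', ← Spec.map_comp, ← Spec.map_comp]
        show _ = Spec.map _ ≫ Spec.map _
        rw [← Spec.map_comp]
        congr 1)
      have hξ : ξ ≫ h n = m ≫ e := by
        show pullback.lift _ _ _ ≫ pullback.fst _ _ ≫ W.ι ≫ j = _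
        rw [pullback.lift_fst_assoc, Category.assoc, hl']
      have h0 : (h n).appTop ((Scheme.ΓSpecIso (CommRingCat.of R)).inv r) = 0 :=
        congrArg (fun b : PurityLiftLib.B C => b.1 n) hr
      have h2 : (m ≫ e).appTop ((Scheme.ΓSpecIso (CommRingCat.of R)).inv r) = 0 := by
        rw [← hξ, Scheme.Hom.comp_appTop, ConcreteCategory.comp_apply, h0, map_zero]
      rw [← Spec.map_comp] at h2
      have h3 := ConcreteCategory.congr_hom (Scheme.ΓSpecIso_inv_naturality (CommRingCat.ofHom (algebraMap R L) ≫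
        CommRingCat.ofHom (Ideal.Quotient.mk (Ideal.span {fL} ^ (n + 1))))) r
      rw [← Ideal.Quotient.eq_zero_iff_mem]
      exact (ConcreteCategory.bijective_of_isIso (Scheme.ΓSpecIso (CommRingCat.of Q)).inv).1
        ((h3.trans h2).trans (map_zero _).symm)
    obtain ⟨G, hG⟩ := IsNoetherian.noetherian (RingHom.ker ψ)
    have hex : ∀ g : G, ∃ t : q.primeCompl, (t : R) * g = 0 := fun g =>
      (IsLocalization.map_eq_zero_iff q.primeCompl L _).1 (hsub g.1 (hG ▸ Submodule.subset_span g.2 : g.1 ∈ RingHom.ker ψ))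
    choose t ht using hex
    classical
    let T : q.primeCompl := ∏ g, t g
    refine Filter.mem_of_superset (((PrimeSpectrum.isOpen_basicOpen (a := (T : R))).preimage j.continuous).mem_nhds
      (show (T : R) ∉ q from T.2)) fun y (hy : (T : R) ∉ (j y).asIdeal) => ?_
    show (RingHom.ker ψ : Set R) ⊆ (j y).asIdeal
    rw [SetLike.coe_subset_coe, ← hG, Submodule.span_le]
    intro g hg
    have hTg : (T : R) * g = 0 := by
      show ((∏ x, t x : q.primeCompl) : R) * g = 0
      rw [Fintype.prod_eq_mul_prod_compl ⟨g, hg⟩, Submonoid.coe_mul, mul_right_comm, ht ⟨g, hg⟩, zero_mul]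
    exact (((j y).isPrime.mem_or_mem (hTg ▸ zero_mem _)).resolve_left hy)

end NhdFaith
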