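import Groth.Agent.NhdFaithLib.Hom

/-! # Full faithfulness near a closed subscheme, for categories of finite étale covers -/

set_option autoImplicit false
set_option linter.style.haveILetI false
set_option backward.isDefEq.respectTransparency false
set_option backward.isDefEq.respectTransparency.types false
set_option maxHeartbeats 1000000

universe u

open CategoryTheory CategoryTheory.Limits AlgebraicGeometry TopologicalSpace

noncomputable section

namespace NhdFaith

theorem restrict_map_fst {X Y : Scheme.{u}} (f : X ⟶ Y) {V W : FEt.Cat Y} (φ : V ⟶ W) :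
    ((FEt.restrict f).map φ).left ≫ pullback.fst W.hom f = pullback.fst V.hom f ≫ φ.left :=
  pullback.lift_fst _ _ _

theorem restrict_map_snd {X Y : Scheme.{u}} (f : X ⟶ Y) {V W : FEt.Cat Y} (φ : V ⟶ W) :
    ((FEt.restrict f).map φ).left ≫ pullback.snd W.hom f = pullback.snd V.hom f :=
  pullback.lift_snd _ _ _

/-- A morphism is a two-step restriction as soon as it is so after projection. -/
theorem restrict_map_eq {X₀ X' X : Scheme.{u}} (a : X₀ ⟶ X') (b : X' ⟶ X) (ab : X₀ ⟶ X) (hab : a ≫ b = ab)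
    (V W : FEt.Cat X) (φ₀ : (FEt.restrict ab).obj V ⟶ (FEt.restrict ab).obj W)
    (φ : (FEt.restrict b).obj V ⟶ (FEt.restrict b).obj W)
    (h : ∀ m : pullback V.hom ab ⟶ pullback V.hom b, m ≫ pullback.fst V.hom b = pullback.fst V.hom ab →
      m ≫ φ.left ≫ pullback.fst W.hom b = φ₀.left ≫ pullback.fst W.hom ab) :
    (FEt.restrict a).map φ = (MorphismProperty.Over.pullbackComp a b ab hab.symm).inv.app V ≫ φ₀ ≫
      (MorphismProperty.Over.pullbackComp a b ab hab.symm).hom.app W := by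
  subst hab
  rw [← Category.assoc, ← Iso.app_hom, ← Iso.comp_inv_eq, Iso.app_inv]
  apply MorphismProperty.Over.Hom.ext
  apply pullback.hom_ext
  · let c : pullback V.hom (a ≫ b) ⟶ pullback (pullback.snd V.hom b) a :=
      ((MorphismProperty.Over.pullbackComp a b (a ≫ b) rfl).hom.app V).left
    have key := h (c ≫ pullback.fst _ _) (by
      simp [c, MorphismProperty.Over.pullbackComp])
    rw [← cancel_epi c]
    simp only [MorphismProperty.Comma.comp_left, Category.assoc]
    have e : c ≫ ((MorphismProperty.Over.pullbackComp a b (a ≫ b) rfl).inv.app V).left = 𝟙 _ := by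
      show ((MorphismProperty.Over.pullbackComp a b (a ≫ b) rfl).hom.app V ≫
        (MorphismProperty.Over.pullbackComp a b (a ≫ b) rfl).inv.app V).left = _
      rw [Iso.hom_inv_id_app]; rfl
    rw [reassoc_of% e]
    refine Eq.trans ?_ ((Category.assoc _ _ _).symm.trans key)
    have hi : ((MorphismProperty.Over.pullbackComp a b (a ≫ b) rfl).inv.app W).left ≫ pullback.fst W.hom (a ≫ b) =
        pullback.fst (pullback.snd W.hom b) a ≫ pullback.fst W.hom b := by
      simp [MorphismProperty.Over.pullbackComp]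
    rw [hi]
    exact congrArg (c ≫ ·) (((Category.assoc _ _ _).symm.trans (congrArg (· ≫ pullback.fst W.hom b) (restrict_map_fst a φ))).trans (Category.assoc _ _ _))
  · have e1 := MorphismProperty.Over.w ((FEt.restrict a).map φ ≫ (MorphismProperty.Over.pullbackComp a b (a ≫ b) rfl).inv.app W)
    have e2 := MorphismProperty.Over.w ((MorphismProperty.Over.pullbackComp a b (a ≫ b) rfl).inv.app V ≫ φ₀)
    exact e1.trans e2.symm

theorem exists_lift_to_nhd {S X₀ : Scheme.{u}} (U' : S.Opens) (u' : X₀ ⟶ (U' : Scheme.{u})) [IsClosedImmersion u']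
    (hsplit : SplitAlong (Set.range u')) (V' W' : FEt.Cat (U' : Scheme.{u}))
    (φ₀ : (FEt.restrict u').obj V' ⟶ (FEt.restrict u').obj W') :
    ∃ (U'' : S.Opens) (h : U'' ≤ U') (u'' : X₀ ⟶ (U'' : Scheme.{u})) (hu : u'' ≫ S.homOfLE h = u')
      (φ : (FEt.restrict (S.homOfLE h)).obj V' ⟶ (FEt.restrict (S.homOfLE h)).obj W'),
        (FEt.restrict u'').map φ = (MorphismProperty.Over.pullbackComp u'' (S.homOfLE h) u' hu.symm).inv.app V' ≫ φ₀ ≫
          (MorphismProperty.Over.pullbackComp u'' (S.homOfLE h) u' hu.symm).hom.app W' := by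
  let v : V'.left ⟶ (U' : Scheme.{u}) := V'.hom
  let w : W'.left ⟶ (U' : Scheme.{u}) := W'.hom
  haveI : IsFinite v := V'.prop.1
  haveI : Etale v := V'.prop.2
  haveI : IsFinite w := W'.prop.1
  haveI : Etale w := W'.prop.2
  obtain ⟨O, φ, hO, hφw, hφ⟩ := exists_hom u' v w hsplit φ₀.left (MorphismProperty.Over.w φ₀)
  let U'' : S.Opens := U'.ι ''ᵁ O
  have h : U'' ≤ U' := (U'.ι.image_le_opensRange O).trans U'.opensRange_ι.le
  let u'' := IsOpenImmersion.lift U''.ι (u' ≫ U'.ι) (by
    rw [Scheme.Opens.range_ι]; rintro _ ⟨x, rfl⟩; exact ⟨u' x, hO ⟨x, rfl⟩, rfl⟩)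
  have hu : u'' ≫ S.homOfLE h = u' := by
    rw [← cancel_mono U'.ι, Category.assoc, Scheme.homOfLE_ι, IsOpenImmersion.lift_fac]
  have hmem : ∀ x : (U'' : Scheme.{u}), S.homOfLE h x ∈ O := fun x => by
    obtain ⟨o, ho, hox⟩ := x.2
    have : U'.ι (S.homOfLE h x) = U''.ι x := by rw [← Scheme.Hom.comp_apply, Scheme.homOfLE_ι]
    rw [U'.ι.isOpenEmbedding.injective (this.trans hox.symm)]
    exact ho
  let k : pullback v (S.homOfLE h) ⟶ (v ⁻¹ᵁ O : Scheme.{u}) :=
    IsOpenImmersion.lift (v ⁻¹ᵁ O).ι (pullback.fst v (S.homOfLE h)) (by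
      rw [Scheme.Opens.range_ι]; rintro _ ⟨t, rfl⟩
      show v (pullback.fst v (S.homOfLE h) t) ∈ O
      rw [← Scheme.Hom.comp_apply, pullback.condition, Scheme.Hom.comp_apply]
      exact hmem _)
  have hk : k ≫ (v ⁻¹ᵁ O).ι = pullback.fst v (S.homOfLE h) := IsOpenImmersion.lift_fac _ _ _
  let ψ : (FEt.restrict (S.homOfLE h)).obj V' ⟶ (FEt.restrict (S.homOfLE h)).obj W' :=
    MorphismProperty.Over.homMk (pullback.lift (k ≫ φ) (pullback.snd v (S.homOfLE h))
      (by rw [Category.assoc, hφw, reassoc_of% hk]; exact pullback.condition))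
      (pullback.lift_snd _ _ _)
  refine ⟨U'', h, u'', hu, ψ, restrict_map_eq u'' (S.homOfLE h) u' hu V' W' φ₀ ψ fun m hm => ?_⟩
  show m ≫ pullback.lift _ _ _ ≫ pullback.fst _ _ = _
  rw [pullback.lift_fst, ← Category.assoc]
  exact hφ (m ≫ k) (by rw [Category.assoc, hk]; exact hm)

theorem exists_eq_on_nhd {S X₀ : Scheme.{u}} (U' : S.Opens) (u' : X₀ ⟶ (U' : Scheme.{u}))
    (V' W' : FEt.Cat (U' : Scheme.{u})) (φ ψ : V' ⟶ W') (heq : (FEt.restrict u').map φ = (FEt.restrict u').map ψ) :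
    ∃ (U'' : S.Opens) (h : U'' ≤ U') (u'' : X₀ ⟶ (U'' : Scheme.{u})), u'' ≫ S.homOfLE h = u' ∧
      (FEt.restrict (S.homOfLE h)).map φ = (FEt.restrict (S.homOfLE h)).map ψ := by
  let v : V'.left ⟶ (U' : Scheme.{u}) := V'.hom
  let w : W'.left ⟶ (U' : Scheme.{u}) := W'.hom
  haveI : IsFinite v := V'.prop.1
  haveI : Etale v := V'.prop.2
  haveI : IsFinite w := W'.prop.1
  haveI : Etale w := W'.prop.2
  have hφ : φ.left ≫ w = v := MorphismProperty.Over.w φ
  have hψ : ψ.left ≫ w = v := MorphismProperty.Over.w ψ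
  let l : V'.left ⟶ pullback w w := pullback.lift φ.left ψ.left (hφ.trans hψ.symm)
  let E : Set V'.left := l ⁻¹' Set.range (pullback.diagonal w)
  have hE : IsOpen E := (pullback.diagonal w).isOpenEmbedding.isOpen_range.preimage l.continuous
  let O : (U' : Scheme.{u}).Opens := ⟨(v '' Eᶜ)ᶜ, (v.isClosedMap _ hE.isClosed_compl).isOpen_compl⟩
  have h1 : pullback.fst v u' ≫ φ.left = pullback.fst v u' ≫ ψ.left := by
    have := congrArg (fun t => t.left ≫ pullback.fst w u') heq
    rwa [restrict_map_fst, restrict_map_fst] at this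
  have hO : Set.range u' ⊆ O := by
    rintro _ ⟨x, rfl⟩ ⟨b, hb, hbx⟩
    obtain ⟨a, ha, -⟩ := Scheme.Pullback.exists_preimage_pullback (f := v) (g := u') b x hbx
    have h2 : pullback.fst v u' ≫ l = (pullback.fst v u' ≫ φ.left) ≫ pullback.diagonal w := by
      apply pullback.hom_ext
      · simp [l]
      · simp [l, h1]
    refine hb ⟨(pullback.fst v u' ≫ φ.left) a, ?_⟩
    rw [← Scheme.Hom.comp_apply, ← h2, Scheme.Hom.comp_apply, ha]
  let U'' : S.Opens := U'.ι ''ᵁ O
  have h : U'' ≤ U' := (U'.ι.image_le_opensRange O).trans U'.opensRange_ι.le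
  let u'' := IsOpenImmersion.lift U''.ι (u' ≫ U'.ι) (by
    rw [Scheme.Opens.range_ι]; rintro _ ⟨x, rfl⟩; exact ⟨u' x, hO ⟨x, rfl⟩, rfl⟩)
  have hu : u'' ≫ S.homOfLE h = u' := by
    rw [← cancel_mono U'.ι, Category.assoc, Scheme.homOfLE_ι, IsOpenImmersion.lift_fac]
  refine ⟨U'', h, u'', hu, ?_⟩
  let a := pullback.fst v (S.homOfLE h)
  have hr : Set.range (a ≫ l) ⊆ Set.range (pullback.diagonal w) := by
    rintro _ ⟨t, rfl⟩
    by_contra hn
    obtain ⟨o, ho, hox⟩ := (pullback.snd v (S.homOfLE h) t).2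
    refine ho ⟨a t, hn, ?_⟩
    apply U'.ι.isOpenEmbedding.injective
    refine Eq.trans ?_ hox.symm
    rw [← Scheme.Hom.comp_apply, ← Scheme.Hom.comp_apply]
    show ((pullback.fst v (S.homOfLE h) ≫ v) ≫ U'.ι) t = _
    rw [pullback.condition, Category.assoc, Scheme.homOfLE_ι]
    rfl
  have hd := IsOpenImmersion.lift_fac (pullback.diagonal w) (a ≫ l) hr
  have e1 := congrArg (· ≫ pullback.fst w w) hd
  have e2 := congrArg (· ≫ pullback.snd w w) hd
  simp only [Category.assoc, pullback.diagonal_fst, pullback.diagonal_snd, Category.comp_id, l,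
    pullback.lift_fst, pullback.lift_snd] at e1 e2
  apply MorphismProperty.Over.Hom.ext
  apply pullback.hom_ext
  · rw [restrict_map_fst, restrict_map_fst]
    exact e1.symm.trans e2
  · rw [restrict_map_snd, restrict_map_snd]

end NhdFaith
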