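import Groth.Agent.PurityLiftLib.Alg
import Groth.Agent.Formal2AlgzLib.Local

/-! # The system of thickenings of an open piece of a finite étale cover -/

set_option autoImplicit false
set_option linter.style.haveILetI false
set_option backward.isDefEq.respectTransparency false
set_option backward.isDefEq.respectTransparency.types false
set_option maxHeartbeats 1000000

universe u

open CategoryTheory CategoryTheory.Limits AlgebraicGeometry TopologicalSpace Opposite

noncomputable section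

namespace NhdFaith

variable {A : Type u} [CommRing A]

/-- Base change of a map to the thickenings. -/
def thickMap {X X' : Scheme.{u}} (h : X ⟶ X') (g : X' ⟶ Spec (CommRingCat.of A)) (J : Ideal A) (n : ℕ) :
    CohB1.thick (h ≫ g) J n ⟶ CohB1.thick g J n :=
  pullback.map _ _ _ _ h (𝟙 _) (𝟙 _) (by simp) (by simp)

theorem thickMap_fst {X X' : Scheme.{u}} (h : X ⟶ X') (g : X' ⟶ Spec (CommRingCat.of A)) (J : Ideal A) (n : ℕ) :
    thickMap h g J n ≫ CohB1.thickι g J n = CohB1.thickι (h ≫ g) J n ≫ h := pullback.lift_fst _ _ _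

theorem thickMap_snd {X X' : Scheme.{u}} (h : X ⟶ X') (g : X' ⟶ Spec (CommRingCat.of A)) (J : Ideal A) (n : ℕ) :
    thickMap h g J n ≫ CohB1.thickToBase g J n = CohB1.thickToBase (h ≫ g) J n :=
  (pullback.lift_snd _ _ _).trans (Category.comp_id _)

theorem isPullback_thickMap {X X' : Scheme.{u}} (h : X ⟶ X') (g : X' ⟶ Spec (CommRingCat.of A)) (J : Ideal A) (n : ℕ) :
    IsPullback (CohB1.thickι (h ≫ g) J n) (thickMap h g J n) h (CohB1.thickι g J n) := by
  refine IsPullback.of_bot ?_ (thickMap_fst h g J n).symm (IsPullback.of_hasPullback g (CohB1.specQuot J n))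
  rw [thickMap_snd]
  exact IsPullback.of_hasPullback (h ≫ g) (CohB1.specQuot J n)

theorem isPullback_thickMap_trans {X X' : Scheme.{u}} (h : X ⟶ X') (g : X' ⟶ Spec (CommRingCat.of A)) (J : Ideal A)
    (n : ℕ) : IsPullback (CohB1.thickTrans (h ≫ g) J n) (thickMap h g J n) (thickMap h g J (n + 1))
      (CohB1.thickTrans g J n) := by
  refine IsPullback.of_bot ?_ ?_ (AlgzLib.isPullback_thickTrans g J n)
  · rw [thickMap_snd, thickMap_snd]
    exact AlgzLib.isPullback_thickTrans (h ≫ g) J n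
  · apply pullback.hom_ext
    · simp [thickMap, CohB1.thickTrans, CohB1.thick]
    · simp [thickMap, CohB1.thickTrans, CohB1.thick]

variable (f : A) (𝔞 : Ideal A)

/-- The points of a scheme over `A` where `f` vanishes. -/
def zl {Z : Scheme.{u}} (π : Z ⟶ Spec (CommRingCat.of A)) : Set Z := {z | f ∈ (π z).asIdeal}

theorem isClosed_zl {Z : Scheme.{u}} (π : Z ⟶ Spec (CommRingCat.of A)) : IsClosed (zl f π) := by
  have : zl f π = π ⁻¹' PrimeSpectrum.zeroLocus ({f} : Set A) :=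
    Set.ext fun z => (Set.singleton_subset_iff (a := f) (s := ((π z).asIdeal : Set A))).symm
  rw [this]
  exact (PrimeSpectrum.isClosed_zeroLocus _).preimage π.continuous

theorem mem_zl_thick {Z : Scheme.{u}} (π : Z ⟶ Spec (CommRingCat.of A)) (n : ℕ)
    (t : CohB1.thick π (Ideal.span {f}) n) : CohB1.thickι π (Ideal.span {f}) n t ∈ zl f π := by
  show f ∈ (π (CohB1.thickι π (Ideal.span {f}) n t)).asIdeal
  rw [← Scheme.Hom.comp_apply, show CohB1.thickι π (Ideal.span {f}) n ≫ π =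
    CohB1.thickToBase π (Ideal.span {f}) n ≫ CohB1.specQuot (Ideal.span {f}) n from pullback.condition,
    Scheme.Hom.comp_apply]
  refine (PrimeSpectrum.isPrime _).mem_of_pow_mem (n + 1) ?_
  show Ideal.Quotient.mk (Ideal.span {f} ^ (n + 1)) (f ^ (n + 1)) ∈ (CohB1.thickToBase π (Ideal.span {f}) n t).asIdeal
  rw [Ideal.Quotient.eq_zero_iff_mem.2 (Ideal.pow_mem_pow (Ideal.mem_span_singleton_self f) _)]
  exact zero_mem _

variable {U' : (Spec (CommRingCat.of A)).Opens} (hle : U' ≤ LocCoh.puncturedOpen A 𝔞)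
  (hcont : ∀ x ∈ LocCoh.puncturedOpen A 𝔞, f ∈ x.asIdeal → x ∈ U')
  {P : Scheme.{u}} (p : P ⟶ (U' : Scheme.{u})) (hp : FEt.prop p)
  (W : P.Opens) (hW : IsClosed ((W : Set P) ∩ zl f (p ≫ U'.ι)))


include hle hcont hp hW in
theorem prop_y (n : ℕ) : FEt.prop (thickMap W.ι (p ≫ ((Spec (CommRingCat.of A)).homOfLE hle) ≫ (LocCoh.puncturedOpen A 𝔞).ι) (Ideal.span {f}) n ≫
    thickMap p (((Spec (CommRingCat.of A)).homOfLE hle) ≫ (LocCoh.puncturedOpen A 𝔞).ι) (Ideal.span {f}) n ≫ thickMap ((Spec (CommRingCat.of A)).homOfLE hle) (LocCoh.puncturedOpen A 𝔞).ι (Ideal.span {f}) n) := by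
  let J := Ideal.span ({f} : Set A)
  have hpi : p ≫ ((Spec (CommRingCat.of A)).homOfLE hle) ≫ (LocCoh.puncturedOpen A 𝔞).ι = p ≫ U'.ι := by rw [Scheme.homOfLE_ι]
  haveI : IsFinite p := hp.1
  haveI : Etale p := hp.2
  haveI : IsOpenImmersion (thickMap W.ι (p ≫ ((Spec (CommRingCat.of A)).homOfLE hle) ≫ (LocCoh.puncturedOpen A 𝔞).ι) J n) :=
    MorphismProperty.of_isPullback (isPullback_thickMap W.ι (p ≫ ((Spec (CommRingCat.of A)).homOfLE hle) ≫ (LocCoh.puncturedOpen A 𝔞).ι) J n) inferInstance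
  haveI : IsFinite (thickMap p (((Spec (CommRingCat.of A)).homOfLE hle) ≫ (LocCoh.puncturedOpen A 𝔞).ι) J n) :=
    MorphismProperty.of_isPullback (isPullback_thickMap p (((Spec (CommRingCat.of A)).homOfLE hle) ≫ (LocCoh.puncturedOpen A 𝔞).ι) J n) ‹IsFinite p›
  haveI : Etale (thickMap p (((Spec (CommRingCat.of A)).homOfLE hle) ≫ (LocCoh.puncturedOpen A 𝔞).ι) J n) :=
    MorphismProperty.of_isPullback (isPullback_thickMap p (((Spec (CommRingCat.of A)).homOfLE hle) ≫ (LocCoh.puncturedOpen A 𝔞).ι) J n) ‹Etale p›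
  haveI : IsOpenImmersion (thickMap ((Spec (CommRingCat.of A)).homOfLE hle) (LocCoh.puncturedOpen A 𝔞).ι J n) :=
    MorphismProperty.of_isPullback (isPullback_thickMap ((Spec (CommRingCat.of A)).homOfLE hle) (LocCoh.puncturedOpen A 𝔞).ι J n) inferInstance
  haveI : IsClosedImmersion (thickMap W.ι (p ≫ ((Spec (CommRingCat.of A)).homOfLE hle) ≫ (LocCoh.puncturedOpen A 𝔞).ι) J n) := by
    refine IsClosedImmersion.of_isPreimmersion _ ?_
    have hr : Set.range (thickMap W.ι (p ≫ ((Spec (CommRingCat.of A)).homOfLE hle) ≫ (LocCoh.puncturedOpen A 𝔞).ι) J n) =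
        CohB1.thickι (p ≫ ((Spec (CommRingCat.of A)).homOfLE hle) ≫ (LocCoh.puncturedOpen A 𝔞).ι) J n ⁻¹' ((W : Set P) ∩ zl f (p ≫ U'.ι)) := by
      refine Set.ext fun t => ⟨?_, fun ht => ?_⟩
      · rintro ⟨s, rfl⟩
        refine ⟨?_, hpi ▸ mem_zl_thick f _ n _⟩
        rw [← Scheme.Hom.comp_apply, thickMap_fst, Scheme.Hom.comp_apply]
        exact (CohB1.thickι (W.ι ≫ p ≫ ((Spec (CommRingCat.of A)).homOfLE hle) ≫ (LocCoh.puncturedOpen A 𝔞).ι) J n s).2
      · obtain ⟨w, hw⟩ := (Scheme.Opens.range_ι W).ge ht.1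
        obtain ⟨s, -, hs⟩ := Scheme.exists_preimage_of_isPullback (isPullback_thickMap W.ι (p ≫ ((Spec (CommRingCat.of A)).homOfLE hle) ≫ (LocCoh.puncturedOpen A 𝔞).ι) J n) w t hw
        exact ⟨s, hs⟩
    rw [hr]
    exact hW.preimage (CohB1.thickι _ J n).continuous
  haveI : Surjective (thickMap ((Spec (CommRingCat.of A)).homOfLE hle) (LocCoh.puncturedOpen A 𝔞).ι J n) := by
    refine ⟨fun t => ?_⟩
    have hx : (LocCoh.puncturedOpen A 𝔞).ι (CohB1.thickι (LocCoh.puncturedOpen A 𝔞).ι J n t) ∈ U' :=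
      hcont _ (CohB1.thickι (LocCoh.puncturedOpen A 𝔞).ι J n t).2 (mem_zl_thick f (LocCoh.puncturedOpen A 𝔞).ι n t)
    obtain ⟨s, -, hs⟩ := Scheme.exists_preimage_of_isPullback (isPullback_thickMap ((Spec (CommRingCat.of A)).homOfLE hle) (LocCoh.puncturedOpen A 𝔞).ι J n) ⟨_, hx⟩ t
      ((LocCoh.puncturedOpen A 𝔞).ι.isOpenEmbedding.injective (by
        rw [← Scheme.Hom.comp_apply, Scheme.homOfLE_ι]; rfl))
    exact ⟨s, hs⟩
  haveI : IsIso (thickMap ((Spec (CommRingCat.of A)).homOfLE hle) (LocCoh.puncturedOpen A 𝔞).ι J n) := (isIso_iff_isOpenImmersion_and_surjective _).2 ⟨inferInstance, inferInstance⟩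
  exact ⟨inferInstance, inferInstance⟩

/-- The thickenings of an open piece, as a system of covers of the thickenings of the punctured spectrum. -/
def cov : PurityLiftLib.Cov (Ideal.span {f}) 𝔞 where
  Y n := CohB1.thick (W.ι ≫ p ≫ ((Spec (CommRingCat.of A)).homOfLE hle) ≫ (LocCoh.puncturedOpen A 𝔞).ι) (Ideal.span {f}) n
  y n := thickMap W.ι (p ≫ ((Spec (CommRingCat.of A)).homOfLE hle) ≫ (LocCoh.puncturedOpen A 𝔞).ι) (Ideal.span {f}) n ≫
    thickMap p (((Spec (CommRingCat.of A)).homOfLE hle) ≫ (LocCoh.puncturedOpen A 𝔞).ι) (Ideal.span {f}) n ≫ thickMap ((Spec (CommRingCat.of A)).homOfLE hle) (LocCoh.puncturedOpen A 𝔞).ι (Ideal.span {f}) n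
  s n := CohB1.thickTrans (W.ι ≫ p ≫ ((Spec (CommRingCat.of A)).homOfLE hle) ≫ (LocCoh.puncturedOpen A 𝔞).ι) (Ideal.span {f}) n
  sq n := (isPullback_thickMap_trans W.ι (p ≫ ((Spec (CommRingCat.of A)).homOfLE hle) ≫ (LocCoh.puncturedOpen A 𝔞).ι) _ n).paste_vert
    ((isPullback_thickMap_trans p (((Spec (CommRingCat.of A)).homOfLE hle) ≫ (LocCoh.puncturedOpen A 𝔞).ι) _ n).paste_vert (isPullback_thickMap_trans ((Spec (CommRingCat.of A)).homOfLE hle) (LocCoh.puncturedOpen A 𝔞).ι _ n))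
  fet n := prop_y f 𝔞 hle hcont p hp W hW n

open Formal2AlgzLib in
/-- Compatible functions on a system of covers, with finiteness from one local cohomology module. -/
theorem finite_and_ker [IsNoetherianRing A] {f : A} {𝔞 : Ideal A} (C : PurityLiftLib.Cov (Ideal.span {f}) 𝔞)
    (hnzd : f ∈ nonZeroDivisors A) [IsAdicComplete (Ideal.span ({f} : Set A)) A]
    (h₁ : Module.Finite A (LocCoh.H 𝔞 1 (A ⧸ Ideal.span ({f} : Set A)))) :
    Module.Finite A (PurityLiftLib.B C) ∧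
      ∀ b : PurityLiftLib.B C, PurityLiftLib.prj C 0 b = 0 → ∃ b', f • b' = b := by
  have hG := PurityLiftLib.isCohFormal_sysG C
  have hfree := PurityLiftLib.isFinLocFreeMod_sysG C
  have hk0 : Formal.KilledBy (Ideal.span ({f} : Set A)) (Gn (PurityLiftLib.sysG C) 0) :=
    fun a ha => hG.2.1 0 a (by rwa [zero_add, pow_one])
  haveI := finite_sections' (hG.1 0) hk0 (hfree 0) h₁
  haveI := finite_Lim hG hfree hnzd
  refine ⟨Module.Finite.equiv (PurityLiftLib.bLim C).symm, fun b hb => ?_⟩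
  obtain ⟨z, hz⟩ := proj_eq_zero_imp hG hfree hnzd 0 (PurityLiftLib.bLim C b) hb
  rw [zero_add, pow_one] at hz
  exact ⟨(PurityLiftLib.bLim C).symm z, by rw [← map_smul, hz, LinearEquiv.symm_apply_apply]⟩

end NhdFaith
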